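import Groth.Agent.Lib.Grass18.CohPiece

/-!
# The Grassmannian of a module of finite type exists
-/

set_option autoImplicit false
set_option linter.style.haveILetI false
set_option linter.unusedSectionVars false
set_option backward.isDefEq.respectTransparency false
set_option backward.isDefEq.respectTransparency.types false
set_option maxHeartbeats 800000

universe u

open CategoryTheory CategoryTheory.Limits AlgebraicGeometry Scheme.Modules TopologicalSpace

namespace Groth.Agent.Grass18

open Groth.Agent

/-- The affine opens form a basis. -/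
theorem isBasisPred_affine (S : Scheme.{u}) : BaseGlue.IsBasisPred (S := S) IsAffineOpen :=
  ⟨S.isBasis_affineOpens⟩

/-- The Grassmannian of a quasi-coherent module of finite type exists over every scheme. -/
theorem exists_isGrass_coh {S : Scheme.{u}} (V : S.Modules) (hV : Coh.IsCoh V) (r : ℕ) :
    ∃ (G : Over S) (Q : G.left.Modules) (q : (Scheme.Modules.pullback G.hom).obj V ⟶ Q),
      Grass.IsGrass G.hom V r Q q := by
  haveI := isBasisPred_affine S
  have hloc : ∀ U : BaseGlue.Idx (S := S) IsAffineOpen, ∃ (G : Scheme.{u}) (π : G ⟶ U.1.toScheme) (Q : G.Modules)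
      (q : (Scheme.Modules.pullback π).obj ((Scheme.Modules.pullback U.1.ι).obj V) ⟶ Q),
      Grass.IsGrass π ((Scheme.Modules.pullback U.1.ι).obj V) r Q q := fun U =>
    haveI : IsAffine U.1.toScheme := U.2
    exists_isGrass_affine (M1.isCoh_pullback U.1.ι hV) r
  choose G π Q q hG using hloc
  let L : BaseGlue.Local (grData V r) (IsAffineOpen (X := S)) :=
    { Q := fun U => Over.mk (π U ≫ U.1.ι)
      mem := fun U x => ((π U) x).2
      k := fun U => Subobject.mk (kernel.ι (outQ U.1.ι (π U) (q U)))
      good := fun U => by
        haveI := (hG U).epi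
        haveI : Epi (outQ U.1.ι (π U) (q U)) := epi_comp _ _
        obtain ⟨e⟩ := nonempty_cokernel_mk_kernel (outQ U.1.ι (π U) (q U))
        exact M2.isFinLocFreeOfRank_of_iso e.symm (hG U).rank
      univ := fun U T hT z hz => univ_piece U.1 (hG U) T hT z hz }
  obtain ⟨Q', k, j, hk, -, hu⟩ := BaseGlue.exists_represented L
  exact ⟨Q', exists_isGrass_of_rep V r k hk hu⟩

end Groth.Agent.Grass18
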