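import Groth.Agent.Lib.Grass18.Functor
import Groth.Agent.Lib.ZeroLocus10.Glue
import Groth.Agent.Lib.ZeroLocus10.Proj
import Groth.Agent.Lib.GrMod11.TwistEpi
import Groth.Agent.Lib.RelAmple18.Ops
import Groth.Agent.Lib.RelAmple18.Generation
import Groth.Agent.Lib.CMReg18.PullVan
import Groth.Agent.Lib.CMReg18.Bounded

/-!
# The Grassmannian of a module of finite type over an affine scheme
-/

set_option autoImplicit false
set_option linter.style.haveILetI false
set_option linter.unusedSectionVars false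
set_option backward.isDefEq.respectTransparency false
set_option backward.isDefEq.respectTransparency.types false
set_option maxHeartbeats 800000

universe u

open CategoryTheory CategoryTheory.Limits AlgebraicGeometry Scheme.Modules TopologicalSpace

namespace Groth.Agent.Grass18

open Groth.Agent

/-- Modules of finite type on affine schemes are quotients of free modules of any large rank. -/
theorem exists_epi_freeMod_affine {U : Scheme.{u}} [IsAffine U] {E : U.Modules} (hE : Coh.IsCoh E) (e : ℕ) :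
    ∃ (N : ℕ) (_ : e ≤ N) (v : FlatMod.freeMod U N ⟶ E), Epi v := by
  have hO : CohB1.IsAmple (Coh.structureModule U) := RA.isQuasiAffine_iff_isAmple.1 inferInstance
  obtain ⟨m, hm⟩ := RA.exists_globallyGenerated hO E hE.1 hE.2
  let i : CohB1.tensorMod E (CohB1.tensorPow (Coh.structureModule U) m) ≅ E :=
    M2.tensorIso (Iso.refl E) (CMReg18.tensorPowUnit U m) ≪≫ M2.tensorRUnit E
  have hcoh := CohFound.isCoh_of_iso i.symm hE
  obtain ⟨k, p, hp⟩ := GrMod11.exists_epi_freeMod hcoh.1 hcoh.2 (hm m le_rfl)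
  obtain ⟨c, hc⟩ := CMReg18.exists_epi_freeMod_le (X := U) (le_max_left k e)
  exact ⟨max k e, le_max_right _ _, c ≫ p ≫ i.hom, inferInstance⟩

/-- The vanishing locus of a map into a finite locally free module on a compact separated scheme. -/
theorem exists_zeroLocus_locFree {G : Scheme.{u}} [CompactSpace G] [QuasiSeparatedSpace G] {K L : G.Modules}
    (hK : Coh.IsQCoh K) {r : ℕ} (hL : FlatMod.IsFinLocFreeOfRank r L) (φ : K ⟶ L) :
    ∃ (Z : Scheme.{u}) (c : Z ⟶ G), IsClosedImmersion c ∧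
      ∀ {A : Scheme.{u}} (g : A ⟶ G), (Scheme.Modules.pullback g).map φ = 0 ↔ ∃ z, z ≫ c = g := by
  classical
  have hloc : ∀ x : G, ∃ A : G.Opens, IsAffineOpen A ∧ x ∈ A ∧
      Nonempty ((Scheme.Modules.pullback A.ι).obj L ≅ FlatMod.freeMod A.toScheme r) := fun x => by
    obtain ⟨D, hxD, ⟨i⟩⟩ := hL x
    obtain ⟨A, hA, hxA, hAD⟩ := exists_isAffineOpen_mem_and_subset (x := x) (U := D) hxD
    obtain ⟨i'⟩ := M2.nonempty_free_mono (show A ≤ D from hAD) i
    exact ⟨A, hA, hxA, ⟨((restrictFunctorIsoPullback A.ι).app L).symm ≪≫ i'⟩⟩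
  choose A hA hxA hfree using hloc
  obtain ⟨P, hP⟩ := isCompact_univ.elim_finite_subcover (fun x => (A x : Set G)) (fun x => (A x).2)
    fun x _ => Set.mem_iUnion.2 ⟨x, hxA x⟩
  refine ZeroLocus10.exists_closed_of_local (fun {T'} g => (Scheme.Modules.pullback g).map φ = 0)
    (fun a g h => ZeroLocus10.map_comp_eq_zero a g rfl φ h)
    (fun {T'} g 𝒰 h => ZeroLocus10.hom_eq_zero_of_cover _ 𝒰.f
      (fun x => ⟨_, 𝒰.covers x⟩) fun i => (ZeroLocus10.map_comp_eq_zero_iff (𝒰.f i) g φ).1 (h i))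
    (α := P) (fun a => A a.1) (fun a => ?_) ?_ fun a => ?_
  · haveI : CompactSpace (A a.1).toScheme := isCompact_iff_compactSpace.1 (hA a.1).isCompact
    infer_instance
  · refine top_le_iff.1 fun x _ => ?_
    obtain ⟨y, hy, hxy⟩ := Set.mem_iUnion₂.1 (hP (Set.mem_univ x))
    exact Opens.mem_iSup.2 ⟨⟨y, hy⟩, hxy⟩
  · haveI : IsAffine (A a.1).toScheme := hA a.1
    haveI : Coh.IsQCoh ((Scheme.Modules.pullback (A a.1).ι).obj K) := M1.isQCoh_pullback _ hK
    obtain ⟨Z, c, hc, huniv⟩ := GrassClosed13.exists_zero_locus (hfree a.1).some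
      ((Scheme.Modules.pullback (A a.1).ι).map φ)
    exact ⟨Z, c, hc, fun g => (ZeroLocus10.map_comp_eq_zero_iff g (A a.1).ι φ).trans (huniv _ g)⟩

variable {U G : Scheme.{u}} {π : G ⟶ U} {F E : U.Modules} (v : F ⟶ E) [Epi v] {r : ℕ} {Q : G.Modules}
  {q : (Scheme.Modules.pullback π).obj F ⟶ Q}

/-- The locus where the universal quotient factors through a quotient is its Grassmannian. -/
theorem exists_isGrass_of_zeroLocus (hG : Grass.IsGrass π F r Q q) {Z : Scheme.{u}} (i : Z ⟶ G) [Mono i]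
    (hi : ∀ {A : Scheme.{u}} (g : A ⟶ G),
      (Scheme.Modules.pullback g).map (kernel.ι ((Scheme.Modules.pullback π).map v) ≫ q) = 0 ↔ ∃ z, z ≫ i = g) :
    ∃ qZ : (Scheme.Modules.pullback (i ≫ π)).obj E ⟶ (Scheme.Modules.pullback i).obj Q,
      Grass.IsGrass (i ≫ π) E r _ qZ := by
  haveI := hG.epi
  let pv := (Scheme.Modules.pullback π).map v
  haveI : Epi pv := Grass.epi_pullback_map π v
  let κ := kernel.ι pv
  haveI := (pullbackPushforwardAdjunction i).leftAdjoint_preservesColimits.{0, 0}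
  haveI := (pullbackPushforwardAdjunction i).left_adjoint_additive
  haveI : Epi ((Scheme.Modules.pullback i).map pv) := Grass.epi_pullback_map i pv
  have hex : (ShortComplex.mk ((Scheme.Modules.pullback i).map κ) ((Scheme.Modules.pullback i).map pv)
      (by rw [← Functor.map_comp, kernel.condition, Functor.map_zero])).Exact :=
    (ShortComplex.exact_kernel pv).map_of_epi_of_preservesCokernel (Scheme.Modules.pullback i) inferInstance inferInstance
  obtain ⟨t, ht⟩ := CokernelCofork.IsColimit.desc' hex.gIsCokernel ((Scheme.Modules.pullback i).map q)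
    (show (Scheme.Modules.pullback i).map κ ≫ (Scheme.Modules.pullback i).map q = 0 by
      rw [← Functor.map_comp]; exact (hi i).2 ⟨𝟙 _, Category.id_comp _⟩)
  change (Scheme.Modules.pullback i).map pv ≫ t = _ at ht
  let qZ := (pullbackComp i π).inv.app E ≫ t
  haveI : Epi t := by
    haveI : Epi ((Scheme.Modules.pullback i).map pv ≫ t) := by rw [ht]; exact Grass.epi_pullback_map i q
    exact epi_of_epi ((Scheme.Modules.pullback i).map pv) t
  have hqZ : (Scheme.Modules.pullback (i ≫ π)).map v ≫ qZ = Grass.quotBC (rfl : i ≫ π = i ≫ π) q := by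
    have h1 : (Scheme.Modules.pullback (i ≫ π)).map v ≫ (pullbackComp i π).inv.app E =
        (pullbackComp i π).inv.app F ≫ (Scheme.Modules.pullback i).map pv := (pullbackComp i π).inv.naturality v
    simp only [qZ]
    rw [reassoc_of% h1, ht]
    simp [Grass.quotBC, pullbackCongr]
  have hdef : ∀ {T : Scheme.{u}} (h : T ⟶ Z) {g : T ⟶ U} (hh : h ≫ i ≫ π = g) (hhi : (h ≫ i) ≫ π = g),
      ((Scheme.Modules.pullback g).map v ≫ Grass.quotBC hh qZ) ≫ ((pullbackComp h i).app Q).hom =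
        Grass.quotBC hhi q := fun h g hh hhi => by
    rw [← GrassClosed13.quotBC_map v qZ hh, hqZ, GrassLib.quotBC_comp q rfl hh hhi, Iso.app_hom]
  refine ⟨qZ, M2.isFinLocFreeOfRank_pullback i hG.rank, inferInstanceAs (Epi (_ ≫ t)), fun T g L hL s hs => ?_⟩
  haveI := hs
  haveI := Grass.epi_pullback_map g v
  let s' := (Scheme.Modules.pullback g).map v ≫ s
  obtain ⟨h₀, ⟨hh₀, e₁, he₁⟩, hu⟩ := hG.univ T g L hL s' (epi_comp _ _)
  have hvan : (Scheme.Modules.pullback h₀).map (κ ≫ q) = 0 := by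
    haveI := (pullbackPushforwardAdjunction h₀).left_adjoint_additive
    have e0 : (Scheme.Modules.pullback h₀).map q ≫ e₁.hom =
        (ModLimH13.cmp h₀ π hh₀).hom.app F ≫ (Scheme.Modules.pullback g).map v ≫ s := by
      show _ = _ ≫ s'
      rw [← he₁, ← Category.assoc, ← Category.assoc]
      simp [Grass.quotBC, ModLimH13.cmp]
    have h1 : (ModLimH13.cmp h₀ π hh₀).hom.app F ≫ (Scheme.Modules.pullback g).map v =
        (Scheme.Modules.pullback h₀).map pv ≫ (ModLimH13.cmp h₀ π hh₀).hom.app E :=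
      ((ModLimH13.cmp h₀ π hh₀).hom.naturality v).symm
    rw [← cancel_mono e₁.hom, zero_comp, Functor.map_comp, Category.assoc, e0, reassoc_of% h1,
      ← Functor.map_comp_assoc, kernel.condition, Functor.map_zero, zero_comp]
  obtain ⟨z, hz⟩ := (hi h₀).1 hvan
  have hz1 : z ≫ i ≫ π = g := by rw [← Category.assoc, hz, hh₀]
  have hz2 : (z ≫ i) ≫ π = g := by rw [hz, hh₀]
  obtain ⟨w, hw⟩ := GrassClosed13.exists_quotBC_of_eq q hz hz2 hh₀
  refine ⟨z, ⟨hz1, (pullbackComp z i).app Q ≪≫ w ≪≫ e₁, ?_⟩, fun z' hz' => ?_⟩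
  · rw [← cancel_epi ((Scheme.Modules.pullback g).map v), ← Category.assoc, Iso.trans_hom, ← Category.assoc,
      hdef z hz1 hz2, Iso.trans_hom, ← Category.assoc, hw, he₁]
  · obtain ⟨hz'1, e', he'⟩ := hz'
    rw [← cancel_mono i, hz]
    have hz'2 : (z' ≫ i) ≫ π = g := by rw [Category.assoc, hz'1]
    refine hu (z' ≫ i) ⟨hz'2, ((pullbackComp z' i).app Q).symm ≪≫ e', ?_⟩
    rw [← hdef z' hz'1 hz'2, Iso.trans_hom, Iso.symm_hom, Category.assoc, Iso.hom_inv_id_assoc, Category.assoc, he']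

/-- The Grassmannian of a module of finite type over an affine scheme exists. -/
theorem exists_isGrass_affine [IsAffine U] (hE : Coh.IsCoh E) (e : ℕ) :
    ∃ (Z : Scheme.{u}) (πZ : Z ⟶ U) (QZ : Z.Modules) (qZ : (Scheme.Modules.pullback πZ).obj E ⟶ QZ),
      Grass.IsGrass πZ E e QZ qZ := by
  obtain ⟨N, hN, v, hv⟩ := exists_epi_freeMod_affine hE e
  obtain ⟨G₀, π₀, Q₀, q₀, hG₀, m, c, hc, hcπ⟩ := Quot18.GrC.exists_isGrass_free U hN
  haveI := hc
  haveI : IsProper π₀ := by rw [← hcπ]; infer_instance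
  haveI : CompactSpace G₀ := QuasiCompact.compactSpace_of_compactSpace π₀
  haveI : QuasiSeparatedSpace G₀ := quasiSeparatedSpace_of_quasiSeparated π₀
  haveI := hv
  have hK : Coh.IsQCoh (kernel ((Scheme.Modules.pullback π₀).map v)) :=
    M1.isQCoh_kernel (M1.isQCoh_pullback _ (M2.isQCoh_of_isFinLocFree
      (M2.isFinLocFree_of_ofRank (M2.isFinLocFreeOfRank_freeMod U N)))) (M1.isQCoh_pullback _ hE.1) _
  obtain ⟨Z, i, hi, huniv⟩ := exists_zeroLocus_locFree hK hG₀.rank
    (kernel.ι ((Scheme.Modules.pullback π₀).map v) ≫ q₀)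
  haveI := hi
  obtain ⟨qZ, hZ⟩ := exists_isGrass_of_zeroLocus v hG₀ i huniv
  exact ⟨Z, i ≫ π₀, _, qZ, hZ⟩

end Groth.Agent.Grass18
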