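import Groth.Agent.Lib.Grass18.Functor
import Groth.Agent.Lib.HilbBC25.Basic

/-!
# Submodules of the pullback of `V` read on `S ×_S T`
-/

set_option autoImplicit false
set_option linter.style.haveILetI false
set_option linter.unusedSectionVars false
set_option backward.isDefEq.respectTransparency false
set_option backward.isDefEq.respectTransparency.types false
set_option maxHeartbeats 800000

universe u

open CategoryTheory CategoryTheory.Limits AlgebraicGeometry Scheme.Modules

namespace Groth.Agent.Grass18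

open Groth.Agent Groth.Agent.Quot18

theorem cmp_id_hom {W S : Scheme.{u}} (g : W ⟶ S) (M : S.Modules) (h : 𝟙 W ≫ g = g) :
    (ModLimH13.cmp (𝟙 W) g h).hom.app M = (pullbackId W).hom.app ((Scheme.Modules.pullback g).obj M) := by
  have h1 := congrArg (fun α => α.app M) (pseudofunctor_right_unitality (f := g))
  simp only [NatTrans.comp_app, Functor.whiskerLeft_app, Functor.rightUnitor_hom_app, Category.comp_id,
    eqToHom_app] at h1
  erw [Category.comp_id] at h1
  rw [← cancel_epi ((pullbackComp (𝟙 W) g).inv.app M), h1]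
  simp [ModLimH13.cmp, pullbackCongr]

/-- The image of the pullback along the identity. -/
theorem image_pull_id {W S : Scheme.{u}} (g : W ⟶ S) (M : S.Modules) (h : 𝟙 W ≫ g = g) {K : W.Modules}
    (a : K ⟶ (Scheme.Modules.pullback g).obj M) :
    imageSubobject ((Scheme.Modules.pullback (𝟙 W)).map a ≫ (ModLimH13.cmp (𝟙 W) g h).hom.app M) =
      imageSubobject a := by
  have h1 := (pullbackId W).hom.naturality a
  simp only [Functor.id_map] at h1
  have e : (Scheme.Modules.pullback (𝟙 W)).map a ≫ (ModLimH13.cmp (𝟙 W) g h).hom.app M =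
      (pullbackId W).hom.app K ≫ a := by rw [cmp_id_hom]; exact h1
  exact (congrArg (fun x => imageSubobject x) e).trans (imageSubobject_iso_comp _ _)

variable {S : Scheme.{u}} (V : S.Modules)

theorem fst_eq (T : Over S) : PicF.XTproj (𝟙 S) T ≫ T.hom = pullback.fst (𝟙 S) T.hom := by
  refine Eq.trans pullback.condition.symm ?_
  exact Category.comp_id _

/-- A submodule of `V_T` read on `S ×_S T`. -/
noncomputable def toET (T : Over S) (K : Subobject ((Scheme.Modules.pullback T.hom).obj V)) :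
    Subobject (FGA.ET (𝟙 S) V T) :=
  imageSubobject ((Scheme.Modules.pullback (PicF.XTproj (𝟙 S) T)).map K.arrow ≫
    (ModLimH13.cmp (PicF.XTproj (𝟙 S) T) T.hom (fst_eq T)).hom.app V)

theorem quotPull_toET {T T' : Over S} (g : T' ⟶ T) (K : Subobject ((Scheme.Modules.pullback T.hom).obj V)) :
    FGA.quotPull (𝟙 S) V g (toET V T K) = toET V T' (pullS V g K) := by
  have hw : (PicF.XTmap (𝟙 S) g) ≫ PicF.XTproj (𝟙 S) T = PicF.XTproj (𝟙 S) T' ≫ g.left :=
    (HilbBC25.isPullback_XTmap (𝟙 S) g).w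
  have h2 : (PicF.XTproj (𝟙 S) T' ≫ g.left) ≫ T.hom = pullback.fst (𝟙 S) T'.hom := by
    rw [Category.assoc, Over.w, fst_eq]
  exact (QuotExt3.image_pull (PicF.XTmap (𝟙 S) g) (PicF.XTproj (𝟙 S) T) T.hom V (fst_eq T)
      (FGA.XTmap_fst (𝟙 S) g) hw h2 _ rfl _ (QuotExt3.etiso_hom (𝟙 S) V g) _ rfl K.arrow).trans
    (QuotExt3.image_pull (PicF.XTproj (𝟙 S) T') g.left T.hom V (Over.w g) (fst_eq T') rfl h2
      _ rfl _ rfl _ rfl K.arrow).symm

theorem nonempty_cokernel_toET (T : Over S) (K : Subobject ((Scheme.Modules.pullback T.hom).obj V)) :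
    Nonempty ((Scheme.Modules.pullback (PicF.XTproj (𝟙 S) T)).obj (cokernel K.arrow) ≅ cokernel (toET V T K).arrow) :=
  QuotExt3.nonempty_cokernel_pull _ K.arrow _

instance (T : Over S) : IsIso (PicF.XTproj (𝟙 S) T) :=
  inferInstanceAs (IsIso (pullback.snd (𝟙 S) T.hom))

/-- A submodule on `S ×_S T` read in `V_T`. -/
noncomputable def ofET (T : Over S) (z : Subobject (FGA.ET (𝟙 S) V T)) :
    Subobject ((Scheme.Modules.pullback T.hom).obj V) :=
  imageSubobject ((Scheme.Modules.pullback (inv (PicF.XTproj (𝟙 S) T))).map z.arrow ≫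
    (ModLimH13.cmp (inv (PicF.XTproj (𝟙 S) T)) (pullback.fst (𝟙 S) T.hom)
      (by rw [← fst_eq, IsIso.inv_hom_id_assoc])).hom.app V)

theorem toET_ofET (T : Over S) (z : Subobject (FGA.ET (𝟙 S) V T)) : toET V T (ofET V T z) = z := by
  refine (QuotExt3.image_pull (PicF.XTproj (𝟙 S) T) (inv (PicF.XTproj (𝟙 S) T)) (pullback.fst (𝟙 S) T.hom) V
    (by rw [← fst_eq, IsIso.inv_hom_id_assoc]) (fst_eq T) (IsIso.hom_inv_id _) (Category.id_comp _)
      _ rfl _ rfl _ rfl z.arrow).trans ?_
  rw [image_pull_id, imageSubobject_mono, Subobject.mk_arrow]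

theorem ofET_toET (T : Over S) (K : Subobject ((Scheme.Modules.pullback T.hom).obj V)) : ofET V T (toET V T K) = K := by
  refine (QuotExt3.image_pull (inv (PicF.XTproj (𝟙 S) T)) (PicF.XTproj (𝟙 S) T) T.hom V
    (fst_eq T) (by rw [← fst_eq, IsIso.inv_hom_id_assoc]) (IsIso.inv_hom_id _) (Category.id_comp _)
      _ rfl _ rfl _ rfl K.arrow).trans ?_
  rw [image_pull_id, imageSubobject_mono, Subobject.mk_arrow]

theorem isFinLocFreeOfRank_ofET (T : Over S) (z : Subobject (FGA.ET (𝟙 S) V T)) {r : ℕ}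
    (hz : FlatMod.IsFinLocFreeOfRank r (cokernel z.arrow)) :
    FlatMod.IsFinLocFreeOfRank r (cokernel (ofET V T z).arrow) := by
  obtain ⟨e⟩ := QuotExt3.nonempty_cokernel_pull (inv (PicF.XTproj (𝟙 S) T)) z.arrow
    ((ModLimH13.cmp (inv (PicF.XTproj (𝟙 S) T)) (pullback.fst (𝟙 S) T.hom)
      (by rw [← fst_eq, IsIso.inv_hom_id_assoc])).hom.app V)
  exact M2.isFinLocFreeOfRank_of_iso e (M2.isFinLocFreeOfRank_pullback _ hz)

/-- Representability in the `Quot` form. -/
theorem exists_rep_ET {r : ℕ} {G : Over S} {Q : G.left.Modules}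
    {q : (Scheme.Modules.pullback G.hom).obj V ⟶ Q} (hG : Grass.IsGrass G.hom V r Q q) :
    ∃ K : Subobject (FGA.ET (𝟙 S) V G), FlatMod.IsFinLocFreeOfRank r (cokernel K.arrow) ∧
      ∀ (T : Over S) (K' : Subobject (FGA.ET (𝟙 S) V T)), FlatMod.IsFinLocFreeOfRank r (cokernel K'.arrow) →
        ∃! g : T ⟶ G, FGA.quotPull (𝟙 S) V g K = K' := by
  haveI := hG.epi
  let K₀ := Subobject.mk (kernel.ι q)
  have key : ∀ {T : Over S} (g : T ⟶ G),
      pullS V g K₀ = Subobject.mk (kernel.ι (Grass.quotBC (Over.w g) q)) := fun {T} g => by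
    haveI : Epi (Grass.quotBC (Over.w g) q) := GrassLib.epi_quotBC _
    haveI : Epi ((Scheme.Modules.pullback g.left).map (Subobject.underlyingIso (kernel.ι q)).hom) := inferInstance
    rw [← imageSubobject_move g q _ (Iso.refl _) (Category.comp_id _)]
    show imageSubobject (move g (Subobject.mk (kernel.ι q)).arrow) = _
    rw [← Subobject.underlyingIso_hom_comp_eq_mk, move, Functor.map_comp, Category.assoc,
      QuotExt3.imageSubobject_epi_comp]
    rfl
  refine ⟨toET V G K₀, ?_, fun T K' hK' => ?_⟩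
  · obtain ⟨e⟩ := nonempty_cokernel_toET V G K₀
    obtain ⟨e'⟩ := nonempty_cokernel_mk_kernel q
    exact M2.isFinLocFreeOfRank_of_iso e (M2.isFinLocFreeOfRank_pullback _ (M2.isFinLocFreeOfRank_of_iso e'.symm hG.rank))
  · let z := ofET V T K'
    obtain ⟨h, ⟨hh, e, he⟩, hu⟩ := hG.univ T.left T.hom _ (isFinLocFreeOfRank_ofET V T K' hK') (cokernel.π z.arrow)
      inferInstance
    refine ⟨Over.homMk h hh, ?_, fun g' hg' => ?_⟩
    · show FGA.quotPull (𝟙 S) V (Over.homMk h hh : T ⟶ G) _ = K'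
      rw [quotPull_toET, key, ← toET_ofET V T K']
      refine congrArg (toET V T) ?_
      haveI : Epi (Grass.quotBC (Over.w (Over.homMk h hh : T ⟶ G)) q) := GrassLib.epi_quotBC _
      rw [← imageSubobject_move (Over.homMk h hh : T ⟶ G) q _ (Iso.refl _) (Category.comp_id _),
        imageSubobject_move (Over.homMk h hh : T ⟶ G) q (cokernel.π z.arrow) e he]
      exact mk_kernel_cokernel_π z
    · change FGA.quotPull (𝟙 S) V g' _ = K' at hg'
      rw [quotPull_toET, key] at hg'
      have h1 : Subobject.mk (kernel.ι (Grass.quotBC (Over.w g') q)) = Subobject.mk (kernel.ι (cokernel.π z.arrow)) := by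
        rw [mk_kernel_cokernel_π]
        show _ = ofET V T K'
        rw [← hg', ofET_toET]
      haveI : Epi (Grass.quotBC (Over.w g') q) := GrassLib.epi_quotBC _
      obtain ⟨e', he'⟩ := exists_iso_of_mk_kernel_eq (Grass.quotBC (Over.w g') q) (cokernel.π z.arrow) h1
      exact Over.OverMorphism.ext (hu g'.left ⟨Over.w g', e', he'⟩)

end Groth.Agent.Grass18
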