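import Mathlib.LinearAlgebra.ExteriorPower.Basic
import Mathlib.LinearAlgebra.Determinant
import Mathlib.LinearAlgebra.StdBasis

/-!
# The kernel of a quotient of a free module is determined by its top exterior power
-/

set_option autoImplicit false

universe u

open exteriorPower

namespace Groth.Agent.Grass18

variable {R : Type u} [CommRing R] {n r : ℕ} {M M' : Type u} [AddCommGroup M] [Module R M]
  [AddCommGroup M'] [Module R M']

/-- Linear maps on an exterior power of a free module agreeing on wedges of basis vectors are equal. -/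
theorem ext_extPow_free {X : Type u} [AddCommGroup X] [Module R X] (Φ Φ' : ⋀[R]^r (Fin n → R) →ₗ[R] X)
    (h : ∀ J : Fin r → Fin n, Φ (ιMulti R r fun i => Pi.single (J i) 1) = Φ' (ιMulti R r fun i => Pi.single (J i) 1)) :
    Φ = Φ' := by
  refine exteriorPower.linearMap_ext (Module.Basis.ext_alternating (Pi.basisFun R (Fin n)) fun J _ => ?_)
  simpa [Pi.basisFun_apply] using h J

/-- A quotient whose top wedge is a linear function of that of another kills its kernel. -/
theorem ker_le_of_wedge (f : (Fin n → R) →ₗ[R] M) (f' : (Fin n → R) →ₗ[R] M') (c : Module.Basis (Fin r) R M')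
    (hf' : Function.Surjective f') (u : ⋀[R]^r M →ₗ[R] ⋀[R]^r M')
    (h : ∀ J : Fin r → Fin n, u (ιMulti R r fun i => f (Pi.single (J i) 1)) = ιMulti R r fun i => f' (Pi.single (J i) 1)) :
    LinearMap.ker f ≤ LinearMap.ker f' := by
  classical
  have key : u.comp (exteriorPower.map r f) = exteriorPower.map r f' := ext_extPow_free _ _ fun J => by
    rw [LinearMap.comp_apply, map_apply_ιMulti, map_apply_ιMulti]
    exact h J
  intro x hx
  rw [LinearMap.mem_ker] at hx ⊢
  refine c.ext_elem fun i => ?_
  obtain ⟨w, hw⟩ : ∃ w : Fin r → (Fin n → R), ∀ j, f' (w j) = c j :=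
    ⟨fun j => (hf' (c j)).choose, fun j => (hf' (c j)).choose_spec⟩
  have h1 := LinearMap.congr_fun key (ιMulti R r (Function.update w i x))
  rw [LinearMap.comp_apply, map_apply_ιMulti, map_apply_ιMulti] at h1
  have h2 : (f ∘ Function.update w i x) i = 0 := by simp [hx]
  rw [AlternatingMap.map_coord_zero _ i h2, map_zero] at h1
  have h3 : f' ∘ Function.update w i x = Function.update (⇑c) i (f' x) := by
    rw [Function.comp_update]
    exact congrArg (fun z => Function.update z i (f' x)) (funext hw)
  rw [h3] at h1
  have h4 := congrArg (exteriorPower.alternatingMapLinearEquiv c.det) h1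
  rw [map_zero, alternatingMapLinearEquiv_apply_ιMulti, Module.Basis.det_apply] at h4
  have e : c.toMatrix (Function.update (⇑c) i (f' x)) = (1 : Matrix (Fin r) (Fin r) R).updateCol i (c.repr (f' x)) := by
    ext a b
    by_cases hb : b = i
    · subst hb; simp [Module.Basis.toMatrix_apply]
    · simp [Module.Basis.toMatrix_apply, hb, Matrix.one_apply, Finsupp.single_apply, eq_comm]
  rw [e, ← Matrix.cramer_apply, Matrix.cramer_one] at h4
  simpa using h4.symm

end Groth.Agent.Grass18
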