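import Groth.Agent.Lib.Grass18.Theta
import Groth.Agent.Lib.Grass18.ExtAlg
import Groth.Agent.Lib.PP12.AffineOps
import Groth.Agent.Lib.DeRhamH7.Terms
import Groth.Agent.Lib.ModM1.Coh

/-!
# The quotient onto the determinant is an epimorphism
-/

set_option autoImplicit false
set_option linter.style.haveILetI false
set_option linter.unusedSectionVars false
set_option backward.isDefEq.respectTransparency false
set_option backward.isDefEq.respectTransparency.types false
set_option synthInstance.maxHeartbeats 200000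
set_option maxHeartbeats 800000

universe u

open CategoryTheory CategoryTheory.Limits AlgebraicGeometry TopologicalSpace Opposite exteriorPower TensorProduct

noncomputable section

namespace Groth.Agent.Grass18

open Groth.Agent

/-- A basis of the sections of a finite locally free module near a point, on affine opens. -/
theorem exists_affine_basis {X : Scheme.{u}} {M : X.Modules} {r : ℕ} (hM : FlatMod.IsFinLocFreeOfRank r M) (x : X)
    {O : X.Opens} (hxO : x ∈ O) :
    ∃ W : X.Opens, IsAffineOpen W ∧ x ∈ W ∧ W ≤ O ∧ Nonempty (Module.Basis (Fin r) Γ(X, W) Γ(M, W)) := by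
  obtain ⟨D, e, hx, he⟩ := P1Split.exists_isBas_nhd hM x
  obtain ⟨W, hW, hxW, hle⟩ := exists_isAffineOpen_mem_and_subset (x := x) (U := O ⊓ D) ⟨hxO, hx⟩
  exact ⟨W, hW, hxW, hle.trans inf_le_left, ⟨DeRhamH7.basOf he (hle.trans inf_le_right)⟩⟩

variable {S T : Scheme.{u}} (g : T ⟶ S) {V : S.Modules} {N : T.Modules} {n : ℕ} {U : S.Opens}

/-- The values of a quotient on a pulled back basis span the sections over an affine open. -/
theorem span_values (hV : Coh.IsQCoh V) (hU : IsAffineOpen U) (b : Module.Basis (Fin n) Γ(S, U) Γ(V, U))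
    {O : T.Opens} (hO : IsAffineOpen O) (h : O ≤ g ⁻¹ᵁ U) (hN : Coh.IsQCoh N)
    (s : (Scheme.Modules.pullback g).obj V ⟶ N) [Epi s] :
    Submodule.span Γ(T, O) (Set.range fun i => M1.mres N h (qv g s (b i))) = ⊤ := by
  letI : Algebra Γ(S, U) Γ(T, O) := (g.appLE U O h).hom.toAlgebra
  letI := PullBC11.baseModule (g := g) ((Scheme.Modules.pullback g).obj V) h
  haveI : IsScalarTower Γ(S, U) Γ(T, O) Γ((Scheme.Modules.pullback g).obj V, O) :=
    IsScalarTower.of_algebraMap_smul fun _ _ => rfl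
  have hbc : IsBaseChange Γ(T, O) (PullBC11.sect (PP12.unitTo g V) h) := PP12.isBC_unit g hV hU hO h
  refine Submodule.eq_top_iff'.2 fun y => ?_
  obtain ⟨z, rfl⟩ := M1.app_surjective_affine_of_isQCoh (M1.isQCoh_pullback g hV) hN s hO y
  induction z using hbc.inductionOn with
  | zero => rw [map_zero]; exact zero_mem _
  | tmul m =>
    have e : s.app O (PullBC11.sect (PP12.unitTo g V) h m) = M1.mres N h (qv g s m) :=
      M1.app_mres s h (M2.pullSec g V m)
    rw [e, ← b.sum_repr m]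
    have e2 : qv g s (∑ i, b.repr m i • b i) = ∑ i, g.app U (b.repr m i) • qv g s (b i) := by
      rw [qv, show M2.pullSec g V (∑ i, b.repr m i • b i) = ∑ i, M2.pullSec g V (b.repr m i • b i) from map_sum _ _ _,
        map_sum]
      exact Finset.sum_congr rfl fun i _ => qv_smul g s _ _
    rw [e2, map_sum]
    refine Submodule.sum_mem _ fun i _ => ?_
    rw [M1.mres_smul]
    exact Submodule.smul_mem _ _ (Submodule.subset_span ⟨i, rfl⟩)
  | smul c x hx =>
    rw [Scheme.Modules.Hom.app_smul]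
    exact Submodule.smul_mem _ c hx
  | add x x' hx hx' => rw [map_add]; exact add_mem hx hx'

variable {G : Scheme.{u}} {π : G ⟶ S} {Q : G.Modules} (qu : (Scheme.Modules.pullback π).obj V ⟶ Q) [Epi qu]

/-- The quotient onto the determinant is an epimorphism. -/
theorem epi_theta {m : ℕ} (hV : FlatMod.IsFinLocFreeOfRank n V) (hQ : FlatMod.IsFinLocFreeOfRank m Q) {L : S.Modules}
    (φ : ∀ U : S.affineOpens, Γ(L, U.1) ≃ₗ[Γ(S, U.1)] ↥(⋀[Γ(S, U.1)]^m Γ(V, U.1)))
    (θ : (Scheme.Modules.pullback π).obj L ⟶ Wedge2.extMod m Q)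
    (hθ : ∀ (U : S.affineOpens) (v : Fin m → Γ(V, U.1)),
      θ.app (π ⁻¹ᵁ U.1) (M2.pullSec π L ((φ U).symm (ιMulti _ m v))) =
        Wedge2.secExt m Q (π ⁻¹ᵁ U.1) (ιMulti _ m fun i => qv π qu (v i))) : Epi θ := by
  classical
  have hVq := M2.isQCoh_of_isFinLocFree (M2.isFinLocFree_of_ofRank hV)
  haveI hQq : Coh.IsQCoh Q := M2.isQCoh_of_isFinLocFree (M2.isFinLocFree_of_ofRank hQ)
  refine (M1.epi_iff_stalk θ).2 fun y a => ?_
  obtain ⟨O', hyO', t, rfl⟩ := TopCat.Presheaf.exists_germ_eq _ a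
  obtain ⟨U, hU, hyU, -, ⟨b⟩⟩ := exists_affine_basis hV (π y) (O := ⊤) trivial
  obtain ⟨O, hO, hyO, hle⟩ := exists_isAffineOpen_mem_and_subset (x := y) (U := O' ⊓ π ⁻¹ᵁ U) ⟨hyO', hyU⟩
  have hOU : O ≤ π ⁻¹ᵁ U := hle.trans inf_le_right
  obtain ⟨x, hx⟩ := Wedge2.surjective_secExt m Q hO (M1.mres (Wedge2.extMod m Q) (hle.trans inf_le_left) t)
  let f : (Fin n → Γ(G, O)) →ₗ[Γ(G, O)] Γ(Q, O) :=
    Fintype.linearCombination Γ(G, O) fun i => M1.mres Q hOU (qv π qu (b i))
  have hf : Function.Surjective f := by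
    rw [← LinearMap.range_eq_top, Fintype.range_linearCombination]
    exact span_values π hVq hU b hO hOU hQq qu
  obtain ⟨z, rfl⟩ := exteriorPower.map_surjective hf x
  have hgoal : ∀ z, ∃ w : Γ((Scheme.Modules.pullback π).obj L, O),
      θ.app O w = Wedge2.secExt m Q O (exteriorPower.map m f z) := by
    let A : Submodule Γ(G, O) Γ(Wedge2.extMod m Q, O) :=
      { carrier := Set.range (θ.app O)
        zero_mem' := ⟨0, map_zero _⟩
        add_mem' := by rintro _ _ ⟨a, rfl⟩ ⟨a', rfl⟩; exact ⟨a + a', map_add _ a a'⟩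
        smul_mem' := by rintro c _ ⟨a, rfl⟩; exact ⟨c • a, Scheme.Modules.Hom.app_smul θ c a⟩ }
    have h0 : A.mkQ.comp ((Wedge2.secExt m Q O).comp (exteriorPower.map m f)) = 0 := ext_extPow_free _ _ fun J => by
      rw [LinearMap.comp_apply, LinearMap.comp_apply, map_apply_ιMulti, LinearMap.zero_apply,
        Submodule.mkQ_apply, Submodule.Quotient.mk_eq_zero]
      refine ⟨M1.mres _ hOU (M2.pullSec π L ((φ ⟨U, hU⟩).symm (ιMulti _ m fun i => b (J i)))), ?_⟩
      rw [M1.app_mres]
      erw [hθ ⟨U, hU⟩]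
      rw [Wedge2.mres_secExt, Wedge2.resExt_ιMulti]
      refine congrArg (fun w => Wedge2.secExt m Q O (ιMulti _ m w)) (funext fun i => ?_)
      simp [f]
    intro z
    have := LinearMap.congr_fun h0 z
    rw [LinearMap.comp_apply, LinearMap.comp_apply, LinearMap.zero_apply, Submodule.mkQ_apply,
      Submodule.Quotient.mk_eq_zero] at this
    exact this
  obtain ⟨w, hw⟩ := hgoal z
  refine ⟨((Scheme.Modules.pullback π).obj L).presheaf.germ O y hyO w, ?_⟩
  refine (TopCat.Presheaf.stalkFunctor_map_germ_apply O y hyO ((Scheme.Modules.toPresheaf G).map θ) w).trans ?_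
  change (Wedge2.extMod m Q).presheaf.germ O y hyO (θ.app O w) = _
  rw [hw, hx]
  exact (M1.germ_mres _ _ _ _)

end Groth.Agent.Grass18
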