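import Mathlib.AlgebraicGeometry.RelativeGluing
import Mathlib.AlgebraicGeometry.Morphisms.FiniteType
import Mathlib.AlgebraicGeometry.Noetherian
import Mathlib.CategoryTheory.Comma.Over.Basic

/-!
# Representability is local on the base

A functor on schemes over `S` which glues along open covers and is representable over the members of a
basis of the topology of `S` is representable.
-/

set_option autoImplicit false
set_option linter.style.haveILetI false
set_option linter.unusedSectionVars false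
set_option backward.isDefEq.respectTransparency false
set_option backward.isDefEq.respectTransparency.types false

universe u

open CategoryTheory CategoryTheory.Limits AlgebraicGeometry TopologicalSpace

namespace Groth.Agent.Grass18.BaseGlue

variable {S : Scheme.{u}}

/-- An open cover from jointly surjective open immersions. -/
noncomputable def openCoverOf {T : Scheme.{u}} {κ : Type u} {W : κ → Scheme.{u}} (j : ∀ k, W k ⟶ T)
    [hj : ∀ k, IsOpenImmersion (j k)] (hcov : ∀ x : T, ∃ k, x ∈ Set.range (j k)) : Scheme.OpenCover.{u} T :=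
  Scheme.Cover.mkOfCovers κ W j hcov hj

/-- The part of `T` over `U`. -/
noncomputable def res (T : Over S) (U : S.Opens) : Over S := Over.mk ((T.hom ⁻¹ᵁ U).ι ≫ T.hom)

/-- The inclusion of the part over `U`. -/
noncomputable def inc (T : Over S) (U : S.Opens) : res T U ⟶ T := Over.homMk (T.hom ⁻¹ᵁ U).ι rfl

instance (T : Over S) (U : S.Opens) : IsOpenImmersion (inc T U).left :=
  inferInstanceAs (IsOpenImmersion (T.hom ⁻¹ᵁ U).ι)

theorem res_mem (T : Over S) (U : S.Opens) (x : (res T U).left) : (res T U).hom x ∈ U := by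
  show T.hom ((T.hom ⁻¹ᵁ U).ι x) ∈ U
  exact x.2

theorem range_inc (T : Over S) (U : S.Opens) : Set.range (inc T U).left = T.hom ⁻¹' U :=
  (T.hom ⁻¹ᵁ U).range_ι

/-- A functor on schemes over `S` with a class of good elements, gluing along open covers. -/
structure Data (S : Scheme.{u}) where
  /-- the values -/
  D : Over S → Type (u + 1)
  /-- pullback -/
  pull : ∀ {T T' : Over S}, (T' ⟶ T) → D T → D T'
  pull_comp : ∀ {T T' T'' : Over S} (h : T'' ⟶ T') (g : T' ⟶ T) (K : D T), pull (h ≫ g) K = pull h (pull g K)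
  /-- the good elements -/
  Good : ∀ T, D T → Prop
  good_pull : ∀ {T T' : Over S} (g : T' ⟶ T) (K : D T),
    Good T K → Good T' (pull g K)
  sep : ∀ (T : Over S) {κ : Type u} (W : κ → Over S) (j : ∀ k, W k ⟶ T),
    (∀ k, IsOpenImmersion (j k).left) → (∀ x : T.left, ∃ k, x ∈ Set.range (j k).left) →
    ∀ K K' : D T, (∀ k, pull (j k) K = pull (j k) K') → K = K'
  glue : ∀ (T : Over S) {κ : Type u} (W : κ → Over S) (j : ∀ k, W k ⟶ T),
    (∀ k, IsOpenImmersion (j k).left) → (∀ x : T.left, ∃ k, x ∈ Set.range (j k).left) →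
    ∀ K : ∀ k, D (W k), (∀ k, Good (W k) (K k)) →
    (∀ k l (T' : Over S) (a : T' ⟶ W k) (b : T' ⟶ W l),
      a ≫ j k = b ≫ j l → pull a (K k) = pull b (K l)) →
    ∃ K₀, Good T K₀ ∧ ∀ k, pull (j k) K₀ = K k

/-- The indices: members of a basis. -/
abbrev Idx (P : S.Opens → Prop) := {U : S.Opens // P U}

/-- A predicate cutting out a basis. -/
class IsBasisPred (P : S.Opens → Prop) : Prop where
  out : Opens.IsBasis {U : S.Opens | P U}

variable (P : S.Opens → Prop) [hP : IsBasisPred P]

/-- The directed cover by all members of a basis. -/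
noncomputable def cover : S.OpenCover where
  I₀ := Idx P
  X U := U.1
  f U := U.1.ι
  mem₀ := by
    rw [Scheme.presieve₀_mem_precoverage_iff]
    refine ⟨fun x ↦ ?_, inferInstance⟩
    use ⟨(Opens.isBasis_iff_nbhd.mp hP.out (Opens.mem_top x)).choose,
      (Opens.isBasis_iff_nbhd.mp hP.out (Opens.mem_top x)).choose_spec.1⟩
    simpa using (Opens.isBasis_iff_nbhd.mp hP.out (Opens.mem_top x)).choose_spec.2.1

instance : Preorder (cover P).I₀ := inferInstanceAs <| Preorder (Idx P)

noncomputable instance : Scheme.Cover.LocallyDirected (cover P) :=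
  .ofIsBasisOpensRange (by intros; simp [cover]) <| by
    convert! hP.out
    ext U
    simp [cover]

variable {P}

variable (F : Data S)

/-- A representing object over each affine open. -/
structure Local (P : S.Opens → Prop) where
  /-- the objects -/
  Q : Idx P → Over S
  mem : ∀ U (x : (Q U).left), (Q U).hom x ∈ U.1
  /-- the universal elements -/
  k : ∀ U, F.D (Q U)
  good : ∀ U, F.Good (Q U) (k U)
  univ : ∀ U (T : Over S), (∀ x : T.left, T.hom x ∈ U.1) → ∀ z, F.Good T z →
    ∃! g : T ⟶ Q U, F.pull g (k U) = z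

variable {F} (L : Local F P)

/-- The structure map to the affine open. -/
noncomputable def Local.q (U : Idx P) : (L.Q U).left ⟶ U.1 :=
  IsOpenImmersion.lift U.1.ι (L.Q U).hom (by
    rintro _ ⟨x, rfl⟩
    rw [U.1.range_ι]
    exact L.mem U x)

theorem Local.q_ι (U : Idx P) : L.q U ≫ U.1.ι = (L.Q U).hom := IsOpenImmersion.lift_fac _ _ _

/-- The transition maps. -/
noncomputable def Local.map {U V : Idx P} (h : U ≤ V) : L.Q U ⟶ L.Q V :=
  (L.univ V (L.Q U) (fun x => h (L.mem U x)) (L.k U) (L.good U)).choose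

theorem Local.pull_map {U V : Idx P} (h : U ≤ V) : F.pull (L.map h) (L.k V) = L.k U := by
  exact (L.univ V (L.Q U) (fun x => h (L.mem U x)) (L.k U) (L.good U)).choose_spec.1

theorem Local.hom_ext {U : Idx P} {T : Over S}
    (hT : ∀ x : T.left, T.hom x ∈ U.1) (g g' : T ⟶ L.Q U) (h : F.pull g (L.k U) = F.pull g' (L.k U)) : g = g' := by
  exact (L.univ U T hT _ (F.good_pull g' _ (L.good U))).unique h rfl

theorem Local.pull_id (U : Idx P) : F.pull (𝟙 (L.Q U)) (L.k U) = L.k U := by
  obtain ⟨g, hg, -⟩ := L.univ U (L.Q U) (L.mem U) _ (L.good U)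
  conv_rhs => rw [← hg]
  conv_lhs => rw [← hg]
  rw [← F.pull_comp, Category.id_comp]

theorem Local.map_id (U : Idx P) : L.map (le_refl U) = 𝟙 _ := by
  exact L.hom_ext (L.mem U) _ _ ((L.pull_map _).trans (L.pull_id U).symm)

theorem Local.map_comp {U V W : Idx P} (h : U ≤ V) (h' : V ≤ W) :
    L.map h ≫ L.map h' = L.map (h.trans h') := by
  exact L.hom_ext (fun x => (h.trans h') (L.mem U x)) _ _ (by rw [F.pull_comp, L.pull_map, L.pull_map, L.pull_map])

theorem Local.map_q {U V : Idx P} (h : U ≤ V) :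
    (L.map h).left ≫ L.q V = L.q U ≫ S.homOfLE (show U.1 ≤ V.1 from h) := by
  rw [← cancel_mono V.1.ι, Category.assoc, Category.assoc, Scheme.homOfLE_ι, L.q_ι, L.q_ι]
  exact Over.w _

theorem Local.isPullback_map {U V : Idx P} (h : U ≤ V) :
    IsPullback (L.map h).left (L.q U) (L.q V) (S.homOfLE (show U.1 ≤ V.1 from h)) := by
  let R := res (L.Q V) U.1
  let m := inc (L.Q V) U.1
  obtain ⟨g, hg, -⟩ := L.univ U R (res_mem _ _) _ (F.good_pull m _ (L.good V))
  have hr : Set.range (L.map h).left ⊆ Set.range m.left := by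
    rintro _ ⟨x, rfl⟩
    rw [range_inc]
    show (L.Q V).hom ((L.map h).left x) ∈ U.1
    rw [← Scheme.Hom.comp_apply, Over.w]
    exact L.mem U x
  let l : L.Q U ⟶ R := Over.homMk (IsOpenImmersion.lift m.left (L.map h).left hr)
    (by rw [← Over.w m, IsOpenImmersion.lift_fac_assoc, Over.w])
  have hl : l ≫ m = L.map h := Over.OverMorphism.ext (IsOpenImmersion.lift_fac _ _ _)
  have h1 : g ≫ L.map h = m := L.hom_ext (U := V) (fun x => h (res_mem _ _ x)) _ _ (by
    rw [F.pull_comp, L.pull_map, hg])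
  have h2 : l ≫ g = 𝟙 _ := L.hom_ext (L.mem U) _ _ (by
    rw [F.pull_comp, hg, ← F.pull_comp, hl, L.pull_map, L.pull_id])
  have h3 : g ≫ l = 𝟙 _ := by
    haveI : Mono m := Over.mono_of_mono_left m
    rw [← cancel_mono m, Category.assoc, hl, h1, Category.id_comp]
  haveI : IsIso l := ⟨g, h2, h3⟩
  haveI : IsIso l.left := (Over.forget S).map_isIso l
  haveI : IsOpenImmersion (L.map h).left := by
    rw [← hl]
    exact inferInstanceAs (IsOpenImmersion (l.left ≫ m.left))
  have hrange : Set.range (L.map h).left = (L.Q V).hom ⁻¹' U.1 := by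
    refine (range_inc (L.Q V) U.1) ▸ le_antisymm hr ?_
    rintro _ ⟨x, rfl⟩
    exact ⟨g.left x, by rw [← Scheme.Hom.comp_apply, ← Over.comp_left, h1]⟩
  refine (IsOpenImmersion.isPullback (L.q U) (L.map h).left (S.homOfLE (show U.1 ≤ V.1 from h)) (L.q V)
    (L.map_q h) ?_).flip
  ext x
  show L.q V x ∈ (S.homOfLE (show U.1 ≤ V.1 from h)).opensRange ↔ x ∈ Set.range (L.map h).left
  rw [Scheme.opensRange_homOfLE, hrange, ← L.q_ι]
  rfl

/-- The gluing datum. -/
noncomputable def Local.datum : (cover P).RelativeGluingData where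
  functor :=
    { obj := fun U => (L.Q U).left
      map := fun {U V} h => (L.map (U := U) (V := V) (leOfHom h)).left
      map_id := fun U => by rw [L.map_id]; rfl
      map_comp := fun {U V W} f g => by rw [← Over.comp_left, L.map_comp] }
  natTrans :=
    { app := fun U => L.q U
      naturality := fun U V h => L.map_q (leOfHom h) }
  equifibered := fun U V h => L.isPullback_map (leOfHom h)

/-- The glued object. -/
noncomputable def Local.glued : Over S := Over.mk L.datum.toBase

/-- The charts. -/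
noncomputable def Local.chart (U : Idx P) : L.Q U ⟶ L.glued :=
  Over.homMk (colimit.ι L.datum.functor U) (by
    show colimit.ι L.datum.functor U ≫ L.datum.toBase = _
    rw [Scheme.Cover.RelativeGluingData.ι_toBase]
    exact L.q_ι U)

theorem Local.isPullback_chart (U : Idx P) :
    IsPullback (L.chart U).left (L.q U) L.glued.hom U.1.ι :=
  (L.datum.isPullback_natTrans_ι_toBase U).flip

instance (U : Idx P) : IsOpenImmersion (L.chart U).left :=
  MorphismProperty.of_isPullback (P := @IsOpenImmersion) (L.isPullback_chart U).flip inferInstance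

theorem Local.range_chart (U : Idx P) : Set.range (L.chart U).left = L.glued.hom ⁻¹' U.1 := by
  have h := L.datum.preimage_toBase_eq_range_ι U
  rw [show Set.range ((cover P).f U) = (U.1 : Set S) from U.1.range_ι] at h
  exact h.symm

theorem Local.map_chart {U V : Idx P} (h : U ≤ V) : L.map h ≫ L.chart V = L.chart U :=
  Over.OverMorphism.ext (colimit.w L.datum.functor (homOfLE h))

theorem exists_affine_le (T : Over S) (U V : Idx P)
    (hT : ∀ x : T.left, T.hom x ∈ U.1 ∧ T.hom x ∈ V.1) :
    ∀ x : T.left, ∃ W : {W : Idx P // W ≤ U ∧ W ≤ V}, x ∈ Set.range (inc T W.1.1).left := by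
  intro x
  obtain ⟨W, hW, hxW, hle⟩ := Opens.isBasis_iff_nbhd.1 hP.out (U := U.1 ⊓ V.1) (hT x)
  exact ⟨⟨⟨W, hW⟩, hle.trans inf_le_left, hle.trans inf_le_right⟩, (range_inc T W).ge hxW⟩

/-- Equal elements give equal maps to the glued object. -/
theorem Local.agree {T : Over S} {U V : Idx P} (a : T ⟶ L.Q U) (b : T ⟶ L.Q V)
    (h : F.pull a (L.k U) = F.pull b (L.k V)) : a ≫ L.chart U = b ≫ L.chart V := by
  have hT : ∀ x : T.left, T.hom x ∈ U.1 ∧ T.hom x ∈ V.1 := fun x =>
    ⟨Over.w a ▸ L.mem U (a.left x), Over.w b ▸ L.mem V (b.left x)⟩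
  apply Over.OverMorphism.ext
  refine Scheme.Cover.hom_ext (openCoverOf (fun W : {W : Idx P // W ≤ U ∧ W ≤ V} => (inc T W.1.1).left)
    (exists_affine_le T U V hT)) _ _ fun W => ?_
  obtain ⟨c, hc, -⟩ := L.univ W.1 (res T W.1.1) (res_mem _ _) _
    (F.good_pull (inc T W.1.1) _ (F.good_pull a _ (L.good U)))
  have e₁ : c ≫ L.map W.2.1 = inc T W.1.1 ≫ a := L.hom_ext (fun x => W.2.1 (res_mem _ _ x)) _ _ (by
    rw [F.pull_comp, L.pull_map, hc, F.pull_comp])
  have e₂ : c ≫ L.map W.2.2 = inc T W.1.1 ≫ b := L.hom_ext (fun x => W.2.2 (res_mem _ _ x)) _ _ (by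
    rw [F.pull_comp, L.pull_map, hc, F.pull_comp, h])
  show (inc T W.1.1 ≫ a ≫ L.chart U).left = (inc T W.1.1 ≫ b ≫ L.chart V).left
  rw [← Category.assoc, ← Category.assoc, ← e₁, ← e₂, Category.assoc, Category.assoc, L.map_chart, L.map_chart]

/-- Maps agreeing in the glued object give equal elements. -/
theorem Local.pull_eq {T : Over S} {U V : Idx P} (a : T ⟶ L.Q U) (b : T ⟶ L.Q V)
    (h : a ≫ L.chart U = b ≫ L.chart V) : F.pull a (L.k U) = F.pull b (L.k V) := by
  have hT : ∀ x : T.left, T.hom x ∈ U.1 ∧ T.hom x ∈ V.1 := fun x =>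
    ⟨Over.w a ▸ L.mem U (a.left x), Over.w b ▸ L.mem V (b.left x)⟩
  refine F.sep T (fun W : {W : Idx P // W ≤ U ∧ W ≤ V} => res T W.1.1) (fun W => inc T W.1.1)
    (fun W => inferInstance) (exists_affine_le T U V hT) _ _ fun W => ?_
  obtain ⟨c, hc, -⟩ := L.univ W.1 (res T W.1.1) (res_mem _ _) _
    (F.good_pull (inc T W.1.1) _ (F.good_pull a _ (L.good U)))
  have e₁ : c ≫ L.map W.2.1 = inc T W.1.1 ≫ a := L.hom_ext (fun x => W.2.1 (res_mem _ _ x)) _ _ (by
    rw [F.pull_comp, L.pull_map, hc, F.pull_comp])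
  have e₂ : c ≫ L.map W.2.2 = inc T W.1.1 ≫ b := by
    haveI : Mono (L.chart V) := Over.mono_of_mono_left _
    rw [← cancel_mono (L.chart V), Category.assoc, L.map_chart, Category.assoc, ← h, ← Category.assoc, ← e₁,
      Category.assoc, L.map_chart]
  rw [← F.pull_comp, ← F.pull_comp, ← e₁, ← e₂, F.pull_comp, L.pull_map, F.pull_comp, L.pull_map]

theorem Local.chart_cover (x : L.glued.left) : ∃ U : Idx P, x ∈ Set.range (L.chart U).left := by
  obtain ⟨W, hW, hxW, -⟩ := Opens.isBasis_iff_nbhd.1 hP.out (U := ⊤) (x := L.glued.hom x) trivial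
  exact ⟨⟨W, hW⟩, (L.range_chart _).ge hxW⟩

theorem exists_represented : ∃ (Q : Over S) (k : F.D Q) (j : ∀ U, L.Q U ⟶ Q),
    F.Good Q k ∧
    (∀ U, F.pull (j U) k = L.k U ∧ IsPullback (j U).left (L.q U) Q.hom U.1.ι) ∧
    ∀ (T : Over S) (z : F.D T), F.Good T z → ∃! g : T ⟶ Q, F.pull g k = z := by
  obtain ⟨k₀, hk₀, hk⟩ := F.glue L.glued L.Q L.chart (fun U => inferInstance) L.chart_cover L.k L.good
    (fun U V T' a b h => L.pull_eq a b h)
  refine ⟨L.glued, k₀, L.chart, hk₀, fun U => ⟨hk U, L.isPullback_chart U⟩, fun T z hz => ?_⟩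
  have hcov : ∀ x : T.left, ∃ U : Idx P, x ∈ Set.range (inc T U.1).left := fun x => by
    obtain ⟨W, hW, hxW, -⟩ := Opens.isBasis_iff_nbhd.1 hP.out (U := ⊤) (x := T.hom x) trivial
    exact ⟨⟨W, hW⟩, (range_inc T W).ge hxW⟩
  choose c hc _hcu using fun U : Idx P =>
    L.univ U (res T U.1) (res_mem _ _) _ (F.good_pull (inc T U.1) z hz)
  have hglue : ∀ U V : Idx P, pullback.fst (inc T U.1).left (inc T V.1).left ≫ (c U ≫ L.chart U).left =
      pullback.snd (inc T U.1).left (inc T V.1).left ≫ (c V ≫ L.chart V).left := fun U V => by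
    let T' : Over S := Over.mk (pullback.fst (inc T U.1).left (inc T V.1).left ≫ (res T U.1).hom)
    let a : T' ⟶ res T U.1 := Over.homMk (pullback.fst _ _) rfl
    let b : T' ⟶ res T V.1 := Over.homMk (pullback.snd _ _) (by
      show pullback.snd _ _ ≫ (res T V.1).hom = pullback.fst _ _ ≫ (res T U.1).hom
      rw [← Over.w (inc T V.1), ← Over.w (inc T U.1), pullback.condition_assoc])
    have hab : a ≫ inc T U.1 = b ≫ inc T V.1 := Over.OverMorphism.ext pullback.condition
    have h := L.agree (a ≫ c U) (b ≫ c V) (by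
      rw [F.pull_comp, F.pull_comp, hc, hc, ← F.pull_comp, hab, F.pull_comp])
    rw [Category.assoc, Category.assoc] at h
    have h' := congrArg Over.Hom.left h
    rw [Over.comp_left, Over.comp_left] at h'
    exact h'
  let 𝒰 : Scheme.OpenCover.{u} T.left :=
    openCoverOf (κ := Idx P) (W := fun U => (res T U.1).left) (fun U => (inc T U.1).left)
      (hj := fun U => inferInstance) hcov
  let g₀ : T.left ⟶ L.glued.left := 𝒰.glueMorphisms (fun U => (c U ≫ L.chart U).left) hglue
  have hg₀ : ∀ U : Idx P, (inc T U.1).left ≫ g₀ = (c U ≫ L.chart U).left := fun U =>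
    𝒰.ι_glueMorphisms _ _ U
  let g : T ⟶ L.glued := Over.homMk g₀ (Scheme.Cover.hom_ext 𝒰 _ _ fun U => by
    show (inc T U.1).left ≫ g₀ ≫ _ = (inc T U.1).left ≫ _
    rw [reassoc_of% (hg₀ U), Over.w, Over.w])
  have hg : ∀ U : Idx P, inc T U.1 ≫ g = c U ≫ L.chart U := fun U => Over.OverMorphism.ext (hg₀ U)
  refine ⟨g, F.sep T _ (fun U : Idx P => inc T U.1) (fun U => inferInstance) hcov _ _ fun U => ?_,
    fun g' hg' => ?_⟩
  · rw [← F.pull_comp, hg, F.pull_comp, hk, hc]
  · apply Over.OverMorphism.ext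
    refine Scheme.Cover.hom_ext 𝒰 _ _ fun U => ?_
    have hr : Set.range ((inc T U.1).left ≫ g'.left) ⊆ Set.range (L.chart U).left := by
      rintro _ ⟨x, rfl⟩
      rw [L.range_chart]
      show L.glued.hom (g'.left ((inc T U.1).left x)) ∈ U.1
      rw [← Scheme.Hom.comp_apply, Over.w g']
      exact x.2
    let a : res T U.1 ⟶ L.Q U := Over.homMk (IsOpenImmersion.lift (L.chart U).left _ hr) (by
      rw [← Over.w (L.chart U), IsOpenImmersion.lift_fac_assoc, Category.assoc, Over.w, Over.w])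
    have ha : a ≫ L.chart U = inc T U.1 ≫ g' := Over.OverMorphism.ext (IsOpenImmersion.lift_fac _ _ _)
    have : a = c U := L.hom_ext (res_mem _ _) _ _ (by rw [hc, ← hk, ← F.pull_comp, ha, F.pull_comp, hg'])
    exact congrArg Over.Hom.left ((ha.symm.trans (by rw [this])).trans (hg U).symm)

end Groth.Agent.Grass18.BaseGlue
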