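import Groth.Agent.Lib.Grass18.GlueCond
import Groth.Agent.Lib.Grass18.Glue

/-!
# The Grassmannian of a locally free module exists
-/

set_option autoImplicit false
set_option linter.style.haveILetI false
set_option linter.unusedSectionVars false
set_option backward.isDefEq.respectTransparency false
set_option backward.isDefEq.respectTransparency.types false
set_option maxHeartbeats 1600000

universe u

open CategoryTheory CategoryTheory.Limits AlgebraicGeometry Scheme.Modules TopologicalSpace

namespace Groth.Agent.Grass18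

open Groth.Agent Groth.Agent.Quot18

variable {S : Scheme.{u}} (V : S.Modules) (r : ℕ)

/-- Pullback of a submodule of the pullback of `V`. -/
noncomputable def pullS {T T' : Over S} (g : T' ⟶ T) (K : Subobject ((Scheme.Modules.pullback T.hom).obj V)) :
    Subobject ((Scheme.Modules.pullback T'.hom).obj V) :=
  imageSubobject (move g K.arrow)

theorem pullS_comp {T T' T'' : Over S} (h : T'' ⟶ T') (g : T' ⟶ T)
    (K : Subobject ((Scheme.Modules.pullback T.hom).obj V)) : pullS V (h ≫ g) K = pullS V h (pullS V g K) :=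
  (QuotExt3.image_pull h.left g.left T.hom V (Over.w g) (Over.w h) (Over.comp_left _ _ _ _ _).symm (Over.w (h ≫ g))
    _ rfl _ rfl _ rfl K.arrow).symm

theorem nonempty_cokernel_pullS {T T' : Over S} (g : T' ⟶ T) (K : Subobject ((Scheme.Modules.pullback T.hom).obj V)) :
    Nonempty ((Scheme.Modules.pullback g.left).obj (cokernel K.arrow) ≅ cokernel (pullS V g K).arrow) :=
  QuotExt3.nonempty_cokernel_pull g.left K.arrow ((ModLimH13.cmp g.left T.hom (Over.w g)).hom.app V)

/-- Locally free quotients of rank `r`, as a functor. -/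
noncomputable def grData : BaseGlue.Data S where
  D T := Subobject ((Scheme.Modules.pullback T.hom).obj V)
  pull g K := pullS V g K
  pull_comp h g K := pullS_comp V h g K
  Good T K := FlatMod.IsFinLocFreeOfRank r (cokernel K.arrow)
  good_pull {T T'} g K hK := by
    obtain ⟨e⟩ := nonempty_cokernel_pullS V g K
    exact M2.isFinLocFreeOfRank_of_iso e (M2.isFinLocFreeOfRank_pullback _ hK)
  sep T κ W j hj hcov K K' h := by
    refine eq_of_pullback_cover (fun k => (j k).left) hcov K K' fun k => ?_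
    exact imageSubobject_cancel_iso ((ModLimH13.cmp (j k).left T.hom (Over.w (j k))).app V) (h k)
  glue T κ W j hj hcov K hK hcompat := by
    let t : ∀ k, (j k).left ≫ T.hom = (W k).hom := fun k => Over.w (j k)
    let q : ∀ k, (Scheme.Modules.pullback (j k).left).obj ((Scheme.Modules.pullback T.hom).obj V) ⟶
        cokernel (K k).arrow :=
      fun k => (ModLimH13.cmp (j k).left T.hom (t k)).hom.app V ≫ cokernel.π (K k).arrow
    haveI : ∀ k, Epi (q k) := fun k => epi_comp _ _
    obtain ⟨K₀, hK₀⟩ := exists_glue_quotient (fun k => (j k).left) _ q fun k l => by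
      let T' : Over S := Over.mk (pullback.fst (j k).left (j l).left ≫ (W k).hom)
      let a : T' ⟶ W k := Over.homMk (pullback.fst (j k).left (j l).left) rfl
      let b : T' ⟶ W l := Over.homMk (pullback.snd (j k).left (j l).left) (by
        show pullback.snd (j k).left (j l).left ≫ (W l).hom = pullback.fst (j k).left (j l).left ≫ (W k).hom
        rw [← t l, ← t k, pullback.condition_assoc])
      have hab : a ≫ j k = b ≫ j l := Over.OverMorphism.ext pullback.condition
      exact glue_cond V T.hom (j k).left (j l).left (t k) (t l) (pullback.fst (j k).left (j l).left)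
        (pullback.snd (j k).left (j l).left) pullback.condition (Over.w a) (Over.w b) (K k) (K l)
        (hcompat k l T' a b hab)
    have hpull : ∀ k, pullS V (j k) K₀ = K k := fun k => by
      show imageSubobject ((Scheme.Modules.pullback (j k).left).map K₀.arrow ≫
        (ModLimH13.cmp (j k).left T.hom (t k)).hom.app V) = _
      rw [imageSubobject_comp_of_eq _ ((ModLimH13.cmp (j k).left T.hom (t k)).hom.app V) (kernel.ι (q k)) (hK₀ k),
        imageSubobject_kernel_comp, mk_kernel_cokernel]
    refine ⟨K₀, isFinLocFreeOfRank_of_cover (fun k => (j k).left) hcov fun k => ?_, hpull⟩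
    obtain ⟨e⟩ := nonempty_cokernel_pullS V (j k) K₀
    exact M2.isFinLocFreeOfRank_of_iso (e ≪≫
      eqToIso (congrArg (fun M : Subobject ((Scheme.Modules.pullback (W k).hom).obj V) => cokernel M.arrow)
        (hpull k))).symm (hK k)

/-- The opens over which `V` is free. -/
def IsFreeOn (n : ℕ) (U : S.Opens) : Prop :=
  Nonempty ((Scheme.Modules.pullback U.ι).obj V ≅ FlatMod.freeMod U.toScheme n)

theorem isBasisPred_isFreeOn {n : ℕ} (hV : FlatMod.IsFinLocFreeOfRank n V) :
    BaseGlue.IsBasisPred (IsFreeOn V n) := by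
  refine ⟨Opens.isBasis_iff_nbhd.2 fun {O x} hx => ?_⟩
  obtain ⟨U, hxU, ⟨i⟩⟩ := hV x
  obtain ⟨i'⟩ := M2.nonempty_free_mono (inf_le_left : U ⊓ O ≤ U) i
  exact ⟨U ⊓ O, ⟨((restrictFunctorIsoPullback (U ⊓ O).ι).app V).symm ≪≫ i'⟩, ⟨hxU, hx⟩, inf_le_right⟩

variable {V r}

/-- Classifying maps over a piece with a universal quotient. -/
theorem univ_piece {G : Scheme.{u}} (U : S.Opens) {π : G ⟶ U.toScheme} {Q : G.Modules}
    {q : (Scheme.Modules.pullback π).obj ((Scheme.Modules.pullback U.ι).obj V) ⟶ Q}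
    (hG : Grass.IsGrass π ((Scheme.Modules.pullback U.ι).obj V) r Q q) (T : Over S) (hT : ∀ x : T.left, T.hom x ∈ U)
    (z : Subobject ((Scheme.Modules.pullback T.hom).obj V)) (hz : FlatMod.IsFinLocFreeOfRank r (cokernel z.arrow)) :
    ∃! g : T ⟶ Over.mk (π ≫ U.ι),
      pullS V g (Subobject.mk (kernel.ι (outQ U.ι π q))) = z := by
  haveI := hG.epi
  haveI hq' : Epi (outQ U.ι π q) := epi_comp _ _
  let GU : Over S := Over.mk (π ≫ U.ι)
  let g₀ : T.left ⟶ U.toScheme := IsOpenImmersion.lift U.ι T.hom (by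
    rintro _ ⟨x, rfl⟩
    rw [U.range_ι]
    exact hT x)
  have hg₀ : g₀ ≫ U.ι = T.hom := IsOpenImmersion.lift_fac _ _ _
  let s := cokernel.π z.arrow
  obtain ⟨h, ⟨hh, e, he⟩, hu⟩ := univ_outQ U.ι hG T.hom g₀ hg₀ _ hz s
  have key : ∀ g : T ⟶ GU, pullS V g (Subobject.mk (kernel.ι (outQ U.ι π q))) =
      imageSubobject (move g (kernel.ι (outQ U.ι π q))) := fun g => by
    haveI : Epi ((Scheme.Modules.pullback g.left).map (Subobject.underlyingIso (kernel.ι (outQ U.ι π q))).hom) :=
      inferInstance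
    show imageSubobject (move g (Subobject.mk (kernel.ι (outQ U.ι π q))).arrow) = _
    rw [← Subobject.underlyingIso_hom_comp_eq_mk, move, Functor.map_comp, Category.assoc,
      QuotExt3.imageSubobject_epi_comp]
    rfl
  refine ⟨Over.homMk h hh, ?_, fun g' hg' => ?_⟩
  · show pullS V (Over.homMk h hh : T ⟶ GU) _ = z
    rw [key, imageSubobject_move (Over.homMk h hh : T ⟶ GU) (outQ U.ι π q) s e he]
    exact mk_kernel_cokernel_π z
  · change pullS V g' _ = z at hg'
    rw [key] at hg'
    haveI : Epi (Grass.quotBC (Over.w g') (outQ U.ι π q)) := GrassLib.epi_quotBC _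
    rw [imageSubobject_move g' (outQ U.ι π q) _ (Iso.refl _) (Category.comp_id _)] at hg'
    obtain ⟨e', he'⟩ := exists_iso_of_mk_kernel_eq (Grass.quotBC (Over.w g') (outQ U.ι π q)) s
      (hg'.trans (mk_kernel_cokernel_π z).symm)
    exact Over.OverMorphism.ext (hu g'.left ⟨Over.w g', e', he'⟩)

variable (V r)

/-- The Grassmannian of locally free quotients of rank `r`, as the kernel functor. -/
theorem exists_grData_rep {n : ℕ} (hV : FlatMod.IsFinLocFreeOfRank n V) (hr : r ≤ n) :
    ∃ (G : Over S) (K : Subobject ((Scheme.Modules.pullback G.hom).obj V)),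
      FlatMod.IsFinLocFreeOfRank r (cokernel K.arrow) ∧ IsProper G.hom ∧
      ∀ (T : Over S) (z : Subobject ((Scheme.Modules.pullback T.hom).obj V)),
        FlatMod.IsFinLocFreeOfRank r (cokernel z.arrow) → ∃! g : T ⟶ G, pullS V g K = z := by
  haveI := isBasisPred_isFreeOn V hV
  have hloc : ∀ U : BaseGlue.Idx (IsFreeOn V n), ∃ (G : Scheme.{u}) (π : G ⟶ U.1.toScheme) (Q : G.Modules)
      (q : (Scheme.Modules.pullback π).obj ((Scheme.Modules.pullback U.1.ι).obj V) ⟶ Q),
      Grass.IsGrass π ((Scheme.Modules.pullback U.1.ι).obj V) r Q q ∧ IsProper π := fun U => by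
    obtain ⟨G, π, Q, q, hG, m, c, hc, hcπ⟩ := GrC.exists_isGrass_free U.1.toScheme hr
    haveI := hc
    haveI : IsProper π := by rw [← hcπ]; infer_instance
    exact ⟨G, π, Q, _, isGrass_of_iso hG U.2.some, inferInstance⟩
  choose G π Q q hG hprop using hloc
  let L : BaseGlue.Local (grData V r) (IsFreeOn V n) :=
    { Q := fun U => Over.mk (π U ≫ U.1.ι)
      mem := fun U x => ((π U) x).2
      k := fun U => Subobject.mk (kernel.ι (outQ U.1.ι (π U) (q U)))
      good := fun U => by
        haveI := (hG U).epi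
        haveI : Epi (outQ U.1.ι (π U) (q U)) := epi_comp _ _
        obtain ⟨e⟩ := nonempty_cokernel_mk_kernel (outQ U.1.ι (π U) (q U))
        exact M2.isFinLocFreeOfRank_of_iso e.symm (hG U).rank
      univ := fun U T hT z hz => univ_piece U.1 (hG U) T hT z hz }
  obtain ⟨Q', k, j, hk, hj, hu⟩ := BaseGlue.exists_represented L
  refine ⟨Q', k, hk, ?_, hu⟩
  have hcov : (⨆ U : BaseGlue.Idx (IsFreeOn V n), U.1) = ⊤ := top_le_iff.1 fun x _ => by
    obtain ⟨W, hW, hxW, -⟩ := Opens.isBasis_iff_nbhd.1 (BaseGlue.IsBasisPred.out (P := IsFreeOn V n)) (U := ⊤) (x := x) trivial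
    exact Opens.mem_iSup.2 ⟨⟨W, hW⟩, hxW⟩
  refine IsZariskiLocalAtTarget.of_iSup_eq_top (fun U : BaseGlue.Idx (IsFreeOn V n) => U.1) hcov fun U => ?_
  have hq : L.q U = π U := by
    rw [← cancel_mono U.1.ι, L.q_ι]
    rfl
  haveI : IsProper (L.q U) := hq ▸ hprop U
  let i := (hj U).2.isoPullback ≪≫ pullbackRestrictIsoRestrict Q'.hom U.1
  have hw : i.hom ≫ (Q'.hom ∣_ U.1) = L.q U := by
    rw [← cancel_mono U.1.ι, Category.assoc, morphismRestrict_ι, Iso.trans_hom, Category.assoc]
    erw [pullbackRestrictIsoRestrict_hom_ι_assoc]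
    rw [← Category.assoc, IsPullback.isoPullback_hom_fst]
    exact (hj U).2.w
  rw [show Q'.hom ∣_ U.1 = i.inv ≫ L.q U by rw [← hw, Iso.inv_hom_id_assoc]]
  infer_instance

/-- A representing object of the kernel functor is a Grassmannian. -/
theorem exists_isGrass_of_rep {G : Over S} (K : Subobject ((Scheme.Modules.pullback G.hom).obj V))
    (hK : FlatMod.IsFinLocFreeOfRank r (cokernel K.arrow))
    (hu : ∀ (T : Over S) (z : Subobject ((Scheme.Modules.pullback T.hom).obj V)),
      FlatMod.IsFinLocFreeOfRank r (cokernel z.arrow) → ∃! g : T ⟶ G, pullS V g K = z) :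
    ∃ (Q : G.left.Modules) (q : (Scheme.Modules.pullback G.hom).obj V ⟶ Q), Grass.IsGrass G.hom V r Q q := by
  let q := cokernel.π K.arrow
  have key : ∀ {T : Over S} (g : T ⟶ G), pullS V g K = Subobject.mk (kernel.ι (Grass.quotBC (Over.w g) q)) :=
    fun {T} g => by
      haveI : Epi (Grass.quotBC (Over.w g) q) := GrassLib.epi_quotBC _
      rw [← imageSubobject_move g q _ (Iso.refl _) (Category.comp_id _)]
      let i : (K : (Scheme.Modules G.left)) ≅ kernel q :=
        Subobject.isoOfEq K _ (mk_kernel_cokernel_π K).symm ≪≫ Subobject.underlyingIso _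
      have hi : i.hom ≫ kernel.ι q = K.arrow := by simp [i, q]
      haveI : Epi ((Scheme.Modules.pullback g.left).map i.hom) := inferInstance
      show imageSubobject (move g K.arrow) = _
      conv_lhs => rw [← hi, move, Functor.map_comp, Category.assoc, QuotExt3.imageSubobject_epi_comp]
      rfl
  refine ⟨_, q, ⟨hK, inferInstance, fun T g L hL s hs => ?_⟩⟩
  let T' : Over S := Over.mk g
  haveI := hs
  obtain ⟨e₀⟩ := nonempty_cokernel_mk_kernel s
  obtain ⟨h, hh, huq⟩ := hu T' (Subobject.mk (kernel.ι s)) (M2.isFinLocFreeOfRank_of_iso e₀.symm hL)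
  rw [key] at hh
  haveI : Epi (Grass.quotBC (Over.w h) q) := GrassLib.epi_quotBC _
  obtain ⟨e, he⟩ := exists_iso_of_mk_kernel_eq (Grass.quotBC (Over.w h) q) s hh
  refine ⟨h.left, ⟨Over.w h, e, he⟩, ?_⟩
  rintro h' ⟨hg', e', he'⟩
  let h'' : T' ⟶ G := Over.homMk h' hg'
  refine congrArg Over.Hom.left (huq h'' ?_)
  haveI : Epi (Grass.quotBC (Over.w h'') q) := GrassLib.epi_quotBC _
  show pullS V h'' K = _
  rw [← imageSubobject_move h'' q s e' he', imageSubobject_move h'' q _ (Iso.refl _) (Category.comp_id _), key]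

/-- The Grassmannian of locally free quotients of a locally free module exists. -/
theorem exists_isGrass {n : ℕ} (hV : FlatMod.IsFinLocFreeOfRank n V) (hr : r ≤ n) :
    ∃ (G : Over S) (Q : G.left.Modules) (q : (Scheme.Modules.pullback G.hom).obj V ⟶ Q),
      Grass.IsGrass G.hom V r Q q ∧ IsProper G.hom := by
  obtain ⟨G, K, hK, hprop, hu⟩ := exists_grData_rep V r hV hr
  obtain ⟨Q, q, hG⟩ := exists_isGrass_of_rep V r K hK hu
  exact ⟨G, Q, q, hG, hprop⟩

end Groth.Agent.Grass18
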