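import Groth.Agent.Lib.Grass18.GlueQuot

/-!
# Agreement on overlaps gives the gluing condition
-/

set_option autoImplicit false
set_option linter.style.haveILetI false
set_option backward.isDefEq.respectTransparency false
set_option backward.isDefEq.respectTransparency.types false
set_option maxHeartbeats 800000

universe u

open CategoryTheory CategoryTheory.Limits AlgebraicGeometry Scheme.Modules

namespace Groth.Agent.Grass18

open Groth.Agent Groth.Agent.Quot18 ModLimH13

theorem glue_cond {S Z W₁ W₂ W' : Scheme.{u}} (V : S.Modules) (t : Z ⟶ S) (j₁ : W₁ ⟶ Z) (j₂ : W₂ ⟶ Z)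
    {t₁ : W₁ ⟶ S} {t₂ : W₂ ⟶ S} {t' : W' ⟶ S} (h₁ : j₁ ≫ t = t₁) (h₂ : j₂ ≫ t = t₂)
    (a : W' ⟶ W₁) (b : W' ⟶ W₂) (w : a ≫ j₁ = b ≫ j₂) (ha : a ≫ t₁ = t') (hb : b ≫ t₂ = t')
    (K₁ : Subobject ((Scheme.Modules.pullback t₁).obj V)) (K₂ : Subobject ((Scheme.Modules.pullback t₂).obj V))
    (h : imageSubobject ((Scheme.Modules.pullback a).map K₁.arrow ≫ (cmp a t₁ ha).hom.app V) =
      imageSubobject ((Scheme.Modules.pullback b).map K₂.arrow ≫ (cmp b t₂ hb).hom.app V)) :
    (Scheme.Modules.pullback a).map (kernel.ι ((cmp j₁ t h₁).hom.app V ≫ cokernel.π K₁.arrow)) ≫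
      sqMap j₁ a b w ((cmp j₂ t h₂).hom.app V ≫ cokernel.π K₂.arrow) = 0 := by
  haveI := (pullbackPushforwardAdjunction a).left_adjoint_additive
  haveI := (pullbackPushforwardAdjunction b).left_adjoint_additive
  have w₁ : (a ≫ j₁) ≫ t = t' := by rw [Category.assoc, h₁, ha]
  have w₂ : (b ≫ j₂) ≫ t = t' := by rw [Category.assoc, h₂, hb]
  have c₁ := QuotExt3.cocycle a j₁ t V h₁ ha w₁
  have c₂ := QuotExt3.cocycle b j₂ t V h₂ hb w₂
  let ψa := (cmp a t₁ ha).hom.app V
  let ψb := (cmp b t₂ hb).app V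
  let κ := kernel.ι ((cmp j₁ t h₁).hom.app V ≫ cokernel.π K₁.arrow)
  have hκ : κ ≫ (cmp j₁ t h₁).hom.app V = Abelian.monoLift K₁.arrow (κ ≫ (cmp j₁ t h₁).hom.app V)
      (by rw [Category.assoc]; exact kernel.condition _) ≫ K₁.arrow :=
    (Abelian.monoLift_comp _ _ _).symm
  have key : sqMap j₁ a b w ((cmp j₂ t h₂).hom.app V) ≫ ψb.hom =
      (Scheme.Modules.pullback a).map ((cmp j₁ t h₁).hom.app V) ≫ ψa := by
    show sqMap j₁ a b w ((cmp j₂ t h₂).hom.app V) ≫ (cmp b t₂ hb).hom.app V =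
      (Scheme.Modules.pullback a).map ((cmp j₁ t h₁).hom.app V) ≫ (cmp a t₁ ha).hom.app V
    rw [sqMap, Category.assoc, Category.assoc, c₂, c₁, Iso.inv_hom_id_app_assoc,
      show (cmp a j₁ w).hom.app ((Scheme.Modules.pullback t).obj V) =
        (pullbackComp a j₁).hom.app _ ≫ (pullbackCongr w).hom.app _ from rfl,
      Category.assoc, cmp_congr_left w w₁ w₂ V]
  have hz : ((Scheme.Modules.pullback a).map K₁.arrow ≫ ψa) ≫ ψb.inv ≫
      (Scheme.Modules.pullback b).map (cokernel.π K₂.arrow) = 0 := by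
    let x := (Scheme.Modules.pullback b).map K₂.arrow ≫ ψb.hom
    have hx : (imageSubobject x).arrow ≫ ψb.inv ≫ (Scheme.Modules.pullback b).map (cokernel.π K₂.arrow) = 0 := by
      rw [← cancel_epi (factorThruImageSubobject x), comp_zero, imageSubobject_arrow_comp_assoc, Category.assoc,
        Iso.hom_inv_id_assoc, ← Functor.map_comp, cokernel.condition, Functor.map_zero]
    have himg : imageSubobject ((Scheme.Modules.pullback a).map K₁.arrow ≫ ψa) = imageSubobject x := h
    rw [← imageSubobject_arrow_comp ((Scheme.Modules.pullback a).map K₁.arrow ≫ ψa),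
      ← Subobject.ofLE_arrow himg.le, Category.assoc, Category.assoc, hx, comp_zero, comp_zero]
  rw [sqMap_comp]
  rw [← Iso.eq_comp_inv] at key
  rw [key, Category.assoc, Category.assoc, ← Category.assoc, ← Functor.map_comp, hκ, Functor.map_comp,
    Category.assoc]
  simpa [Category.assoc] using congrArg ((Scheme.Modules.pullback a).map _ ≫ ·) hz

end Groth.Agent.Grass18
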