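import Groth.Agent.Lib.ParaFDesc27.QcqsBC

/-!
# Degree zero base change along open immersions
-/

set_option autoImplicit false
set_option linter.style.haveILetI false
set_option linter.unusedSectionVars false
set_option backward.isDefEq.respectTransparency false
set_option backward.isDefEq.respectTransparency.types false

universe u

open AlgebraicGeometry CategoryTheory Limits TopologicalSpace Scheme.Modules

namespace Groth.Agent.Grass18

open Groth.Agent ModLimH13

variable {X S X' S' : Scheme.{u}}

/-- A restriction between equal opens is bijective. -/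
theorem bijective_mres_of_eq (M : X.Modules) {U V : X.Opens} (h : V = U) :
    Function.Bijective (M1.mres M h.le : Γ(M, U) → Γ(M, V)) := by
  subst h
  exact ⟨fun s t hst => by rwa [M1.mres_id, M1.mres_id] at hst, fun t => ⟨t, M1.mres_id M _ t⟩⟩

/-- Sections over an open in the range are the sections of the pullback. -/
theorem bijective_pullSec_open (g : S' ⟶ S) [IsOpenImmersion g] (M : S.Modules) {V : S.Opens}
    (hV : V ≤ g.opensRange) : Function.Bijective (fun s : Γ(M, V) => M2.pullSec g M s) := by
  let i := (restrictFunctorIsoPullback g).app M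
  have hunit : (restrictAdjunction g).unit.app M ≫ (Scheme.Modules.pushforward g).map i.hom =
      (pullbackPushforwardAdjunction g).unit.app M :=
    Adjunction.unit_leftAdjointUniq_hom_app (restrictAdjunction g) (pullbackPushforwardAdjunction g) M
  have hs : ∀ s : Γ(M, V), M2.pullSec g M s = i.hom.app (g ⁻¹ᵁ V) (((restrictAdjunction g).unit.app M).app V s) :=
    fun s => (congrArg (fun ψ => ψ.app V s) hunit).symm
  have hle : g ''ᵁ (g ⁻¹ᵁ V) = V := by
    rw [Scheme.Hom.image_preimage_eq_opensRange_inf, inf_eq_right.2 hV]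
  have hu : Function.Bijective (fun s : Γ(M, V) => ((restrictAdjunction g).unit.app M).app V s) := by
    exact bijective_mres_of_eq M hle
  have hi : Function.Bijective (i.hom.app (g ⁻¹ᵁ V)) := by
    exact (ConcreteCategory.isIso_iff_bijective _).1 (Scheme.Modules.Hom.isIso_iff_isIso_app.1 inferInstance _)
  rw [show (fun s : Γ(M, V) => M2.pullSec g M s) = _ ∘ _ from funext hs]
  exact hi.comp hu

theorem bijective_res'_open (g : S' ⟶ S) [IsOpenImmersion g] (M : S.Modules) {V : S.Opens}
    (hV : V ≤ g.opensRange) {W : S'.Opens} (hW : W = g ⁻¹ᵁ V) :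
    Function.Bijective (fun s : Γ(M, V) => res' g M hW.le s) :=
  (bijective_mres_of_eq _ hW).comp (bijective_pullSec_open g M hV)

/-- Base change along an open immersion is an isomorphism for every module. -/
theorem isIso_bc0_open {f : X ⟶ S} {g : S' ⟶ S} {f' : X' ⟶ S'} {g' : X' ⟶ X} [IsOpenImmersion g]
    (hsq : IsPullback g' f' f g) (F : X.Modules) : IsIso (CohBC.bc0 f g f' g' hsq.w F) := by
  haveI : IsOpenImmersion g' := MorphismProperty.of_isPullback (P := @IsOpenImmersion) hsq.flip inferInstance
  refine ParaFDesc27.isIso_of_basis _ (fun _ => True) (fun O z hz => ⟨O, trivial, hz, le_rfl⟩) fun W _ => ?_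
  let V := g ''ᵁ W
  have hW : W = g ⁻¹ᵁ V := (g.preimage_image_eq W).symm
  have hVr : V ≤ g.opensRange := by
    rintro _ ⟨w, -, rfl⟩
    exact ⟨w, rfl⟩
  have hr : f ⁻¹ᵁ V ≤ g'.opensRange := by
    intro x hx
    obtain ⟨s', hs'⟩ := hVr hx
    obtain ⟨z, hz, -⟩ := Scheme.Pullback.exists_preimage_pullback x s' hs'.symm
    refine ⟨hsq.isoPullback.inv z, ?_⟩
    rw [← Scheme.Hom.comp_apply, IsPullback.isoPullback_inv_fst]
    exact hz
  have he : f' ⁻¹ᵁ W = g' ⁻¹ᵁ (f ⁻¹ᵁ V) := by
    rw [hW, ← Scheme.Hom.comp_preimage, ← Scheme.Hom.comp_preimage, hsq.w]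
  let N := (Scheme.Modules.pushforward f).obj F
  have h1 := bijective_res'_open g N hVr hW
  refine (Function.Bijective.of_comp_iff _ h1).1 ?_
  have key : ((CohBC.bc0 f g f' g' hsq.w F).app W ∘ fun s : Γ(N, V) => res' g N hW.le s) =
      fun s => res' g' F he.le (show Γ(F, f ⁻¹ᵁ V) from s) := funext fun s =>
    ParaFDesc27.bc0_res' hsq.w F hW.le s he.le
  rw [key]
  exact bijective_res'_open g' F hr he

end Groth.Agent.Grass18
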