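import Groth.Agent.Lib.Quot18.Core
import Groth.Agent.Lib.GrassClosed13.Main

/-!
# Grassmannians over an open piece, and kernels of quotients
-/

set_option autoImplicit false
set_option linter.style.haveILetI false
set_option linter.unusedSectionVars false
set_option backward.isDefEq.respectTransparency false
set_option backward.isDefEq.respectTransparency.types false
set_option maxHeartbeats 800000

universe u

open CategoryTheory CategoryTheory.Limits AlgebraicGeometry Scheme.Modules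

namespace Groth.Agent.Grass18

open Groth.Agent

section Kernels

variable {C : Type*} [Category C] [Abelian C] {A B B' : C}

/-- Quotients with the same kernel are isomorphic. -/
theorem exists_iso_of_mk_kernel_eq (s : A ⟶ B) (s' : A ⟶ B') [Epi s] [Epi s']
    (h : Subobject.mk (kernel.ι s) = Subobject.mk (kernel.ι s')) : ∃ e : B ≅ B', s ≫ e.hom = s' := by
  have h0 : kernel.ι s ≫ s' = 0 := by
    rw [← Subobject.ofMkLEMk_comp h.le, Category.assoc, kernel.condition, comp_zero]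
  have h1 : kernel.ι s' ≫ s = 0 := by
    rw [← Subobject.ofMkLEMk_comp h.ge, Category.assoc, kernel.condition, comp_zero]
  refine ⟨⟨Abelian.epiDesc s s' h0, Abelian.epiDesc s' s h1, ?_, ?_⟩, Abelian.comp_epiDesc _ _ _⟩
  · rw [← cancel_epi s, Abelian.comp_epiDesc_assoc, Abelian.comp_epiDesc, Category.comp_id]
  · rw [← cancel_epi s', Abelian.comp_epiDesc_assoc, Abelian.comp_epiDesc, Category.comp_id]

/-- A subobject is the kernel of its cokernel. -/
theorem mk_kernel_cokernel_π (z : Subobject A) : Subobject.mk (kernel.ι (cokernel.π z.arrow)) = z :=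
  le_antisymm (Subobject.mk_le_of_comm (Abelian.monoLift z.arrow _ (kernel.condition _)) (Abelian.monoLift_comp _ _ _))
    (Subobject.le_mk_of_comm (kernel.lift _ z.arrow (cokernel.condition _)) (kernel.lift_ι _ _ _))

/-- The cokernel of a kernel. -/
theorem nonempty_cokernel_mk_kernel (s : A ⟶ B) [Epi s] :
    Nonempty (cokernel (Subobject.mk (kernel.ι s)).arrow ≅ B) :=
  ⟨cokernelIsoOfEq (Subobject.underlyingIso_hom_comp_eq_mk (kernel.ι s)).symm ≪≫ cokernelEpiComp _ _ ≪≫
    IsColimit.coconePointUniqueUpToIso (cokernelIsCokernel _) (Abelian.epiIsCokernelOfKernel _ (kernelIsKernel s))⟩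

end Kernels

variable {S U G T : Scheme.{u}} {V : S.Modules}

/-- The universal quotient read over the big base. -/
noncomputable def outQ (j : U ⟶ S) (π : G ⟶ U) {Q : G.Modules}
    (q : (Scheme.Modules.pullback π).obj ((Scheme.Modules.pullback j).obj V) ⟶ Q) :
    (Scheme.Modules.pullback (π ≫ j)).obj V ⟶ Q :=
  (ModLimH13.cmp π j rfl).inv.app V ≫ q

theorem quotBC_outQ (j : U ⟶ S) (π : G ⟶ U) {Q : G.Modules}
    (q : (Scheme.Modules.pullback π).obj ((Scheme.Modules.pullback j).obj V) ⟶ Q)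
    {h : T ⟶ G} {g₀ : T ⟶ U} (hg₀ : h ≫ π = g₀) {g : T ⟶ S} (hgj : g₀ ≫ j = g) (hg : h ≫ π ≫ j = g) :
    Grass.quotBC hg (outQ j π q) = (ModLimH13.cmp g₀ j hgj).inv.app V ≫ Grass.quotBC hg₀ q := by
  subst hg₀
  subst hgj
  have c := QuotExt3.cocycle h π j V (rfl : π ≫ j = π ≫ j) hg rfl
  have e1 : ∀ {Q' : G.Modules} (x : (Scheme.Modules.pullback (π ≫ j)).obj V ⟶ Q'),
      Grass.quotBC hg x = (ModLimH13.cmp h (π ≫ j) hg).inv.app V ≫ (Scheme.Modules.pullback h).map x := fun x => by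
    simp [Grass.quotBC, ModLimH13.cmp]
  have e2 : Grass.quotBC (rfl : h ≫ π = h ≫ π) q =
      (Scheme.Modules.pullbackComp h π).inv.app _ ≫ (Scheme.Modules.pullback h).map q := by
    simp [Grass.quotBC, pullbackCongr]
  rw [e1, e2, outQ, Functor.map_comp, ← Category.assoc, ← Category.assoc]
  refine congrArg (· ≫ _) ?_
  have ci := congrArg Iso.inv (Iso.ext c :
    (Scheme.Modules.pullback h).mapIso ((ModLimH13.cmp π j rfl).app V) ≪≫ (ModLimH13.cmp h (π ≫ j) hg).app V =
      (pullbackComp h π).app _ ≪≫ (ModLimH13.cmp (h ≫ π) j rfl).app V)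
  exact ci

/-- The universal property of a Grassmannian over an open piece, read over the big base. -/
theorem univ_outQ (j : U ⟶ S) [Mono j] {π : G ⟶ U} {r : ℕ} {Q : G.Modules}
    {q : (Scheme.Modules.pullback π).obj ((Scheme.Modules.pullback j).obj V) ⟶ Q}
    (hG : Grass.IsGrass π ((Scheme.Modules.pullback j).obj V) r Q q) (g : T ⟶ S) (g₀ : T ⟶ U) (hg₀ : g₀ ≫ j = g)
    (L : T.Modules) (hL : FlatMod.IsFinLocFreeOfRank r L) (s : (Scheme.Modules.pullback g).obj V ⟶ L) [Epi s] :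
    ∃! h : T ⟶ G, ∃ (hg : h ≫ π ≫ j = g) (e : (Scheme.Modules.pullback h).obj Q ≅ L),
      Grass.quotBC hg (outQ j π q) ≫ e.hom = s := by
  let s₀ := (ModLimH13.cmp g₀ j hg₀).hom.app V ≫ s
  have hs₀ : Epi s₀ := epi_comp _ _
  obtain ⟨h, ⟨hh, e, he⟩, hu⟩ := hG.univ T g₀ L hL s₀ hs₀
  refine ⟨h, ⟨by rw [← Category.assoc, hh, hg₀], e, ?_⟩, ?_⟩
  · rw [quotBC_outQ j π q hh hg₀, Category.assoc, he, Iso.inv_hom_id_app_assoc]
  · rintro h' ⟨hg', e', he'⟩
    have hh' : h' ≫ π = g₀ := by rw [← cancel_mono j, Category.assoc, hg', hg₀]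
    refine hu h' ⟨hh', e', ?_⟩
    rw [quotBC_outQ j π q hh' hg₀, Category.assoc] at he'
    show _ = (ModLimH13.cmp g₀ j hg₀).hom.app V ≫ s
    rw [← he', Iso.hom_inv_id_app_assoc]

/-- Grassmannians only depend on the module up to isomorphism. -/
theorem isGrass_of_iso {π : G ⟶ S} {E E' : S.Modules} {r : ℕ} {Q : G.Modules}
    {q : (Scheme.Modules.pullback π).obj E' ⟶ Q} (hG : Grass.IsGrass π E' r Q q) (e : E ≅ E') :
    Grass.IsGrass π E r Q ((Scheme.Modules.pullback π).map e.hom ≫ q) := by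
  haveI := hG.epi
  refine ⟨hG.rank, epi_comp _ _, fun T g L hL s hs => ?_⟩
  obtain ⟨h, ⟨hh, c, hc⟩, hu⟩ := hG.univ T g L hL ((Scheme.Modules.pullback g).map e.inv ≫ s) (epi_comp _ _)
  refine ⟨h, ⟨hh, c, ?_⟩, ?_⟩
  · rw [GrassClosed13.quotBC_map e.hom q hh, Category.assoc, hc, ← Functor.map_comp_assoc, Iso.hom_inv_id,
      CategoryTheory.Functor.map_id, Category.id_comp]
  · rintro h' ⟨hg', c', hc'⟩
    refine hu h' ⟨hg', c', ?_⟩
    rw [GrassClosed13.quotBC_map e.hom q hg', Category.assoc] at hc'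
    rw [← hc', ← Functor.map_comp_assoc, Iso.inv_hom_id, CategoryTheory.Functor.map_id, Category.id_comp]

/-- A module locally free of rank `r` on an open cover is locally free of rank `r`. -/
theorem isFinLocFreeOfRank_of_cover {κ : Type u} {W : κ → Scheme.{u}} (j : ∀ k, W k ⟶ T)
    [∀ k, IsOpenImmersion (j k)] (hcov : ∀ x : T, ∃ k, x ∈ Set.range (j k)) {r : ℕ} {M : T.Modules}
    (h : ∀ k, FlatMod.IsFinLocFreeOfRank r ((Scheme.Modules.pullback (j k)).obj M)) :
    FlatMod.IsFinLocFreeOfRank r M := fun x => by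
  obtain ⟨k, y, rfl⟩ := hcov x
  obtain ⟨O, hO, ⟨i⟩⟩ := h k y
  let f := O.ι ≫ j k
  refine ⟨f.opensRange, ⟨⟨y, hO⟩, rfl⟩, ⟨(restrictFunctorIsoPullback f.opensRange.ι).app M ≪≫
    (ModLimH13.cmp f.isoOpensRange.inv f f.isoOpensRange_inv_comp).symm.app M ≪≫
    (Scheme.Modules.pullback f.isoOpensRange.inv).mapIso ((ModLimH13.cmp O.ι (j k) rfl).symm.app M ≪≫
      (restrictFunctorIsoPullback O.ι).symm.app _ ≪≫ i) ≪≫ M2.freeModPullbackIso _ r⟩⟩

end Groth.Agent.Grass18
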