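import Groth.Agent.Lib.Quot18.GlueSub
import Groth.Agent.Lib.Quot18.QuotSheaf
import Groth.Agent.Lib.Grass18.OpenBC
import Groth.Agent.Lib.Grass18.Piece

/-!
# Quotients of a module on any scheme glue along any open cover
-/

set_option autoImplicit false
set_option linter.style.haveILetI false
set_option backward.isDefEq.respectTransparency false
set_option backward.isDefEq.respectTransparency.types false
set_option maxHeartbeats 800000

universe u

open CategoryTheory CategoryTheory.Limits AlgebraicGeometry Scheme.Modules

namespace Groth.Agent.Grass18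

open Groth.Agent Groth.Agent.Quot18

variable {Z : Scheme.{u}} {κ : Type u} {W : κ → Scheme.{u}} (j : ∀ k, W k ⟶ Z) [∀ k, IsOpenImmersion (j k)]

/-- Quotients glue. -/
theorem exists_glue_quotient (E : Z.Modules) {G : ∀ k, (W k).Modules}
    (q : ∀ k, (Scheme.Modules.pullback (j k)).obj E ⟶ G k) [∀ k, Epi (q k)]
    (hc : ∀ k l, (Scheme.Modules.pullback (pullback.fst (j k) (j l))).map (kernel.ι (q k)) ≫
      sqMap (j k) (pullback.fst (j k) (j l)) (pullback.snd (j k) (j l)) pullback.condition (q l) = 0) :
    ∃ K : Subobject E, ∀ k,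
      imageSubobject ((Scheme.Modules.pullback (j k)).map K.arrow) = Subobject.mk (kernel.ι (q k)) := by
  let η : E ⟶ ∏ᶜ fun l => (Scheme.Modules.pushforward (j l)).obj (G l) :=
    Pi.lift fun l => (pullbackPushforwardAdjunction (j l)).homEquiv _ _ (q l)
  refine ⟨Subobject.mk (kernel.ι η), fun k => ?_⟩
  let P := Scheme.Modules.pullback (j k)
  haveI : P.IsRightAdjoint :=
    Functor.isRightAdjoint_of_iso (Scheme.Modules.restrictFunctorIsoPullback (j k))
  haveI : PreservesFiniteLimits P := RelPCS4.preservesFiniteLimits_pullback (j k)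
  haveI := (pullbackPushforwardAdjunction (j k)).leftAdjoint_preservesColimits.{0, 0}
  haveI := (pullbackPushforwardAdjunction (j k)).left_adjoint_additive
  haveI : Mono (P.map (kernel.ι η)) := inferInstance
  rw [← Subobject.underlyingIso_hom_comp_eq_mk (kernel.ι η)] at *
  rw [Functor.map_comp, QuotExt3.imageSubobject_epi_comp, imageSubobject_mono]
  have h1 : P.map (kernel.ι η) ≫ q k = 0 := by
    have e : q k = P.map η ≫ P.map (Pi.π _ k) ≫ (pullbackPushforwardAdjunction (j k)).counit.app (G k) := by
      rw [← Functor.map_comp_assoc]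
      simp only [η, Pi.lift_π]
      exact ((Equiv.symm_apply_apply _ (q k)).symm.trans (Adjunction.homEquiv_counit _ _ _ _))
    rw [e, ← Functor.map_comp_assoc, kernel.condition, Functor.map_zero, zero_comp]
  have h2 : kernel.ι (q k) ≫ P.map η = 0 := by
    have hlim : IsLimit (P.mapCone (limit.cone (Discrete.functor fun l => (Scheme.Modules.pushforward (j l)).obj (G l)))) :=
      isLimitOfPreserves P (limit.isLimit _)
    refine hlim.hom_ext fun ⟨l⟩ => ?_
    show (kernel.ι (q k) ≫ P.map η) ≫ P.map (Pi.π (fun l => (Scheme.Modules.pushforward (j l)).obj (G l)) l) =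
      (0 : kernel (q k) ⟶ P.obj (∏ᶜ fun l => (Scheme.Modules.pushforward (j l)).obj (G l))) ≫
        P.map (Pi.π (fun l => (Scheme.Modules.pushforward (j l)).obj (G l)) l)
    rw [zero_comp, Category.assoc, ← Functor.map_comp]
    simp only [η, Pi.lift_π]
    let fst := pullback.fst (j k) (j l)
    let snd := pullback.snd (j k) (j l)
    haveI := isIso_bc0_open ((IsPullback.of_hasPullback (j k) (j l)).flip :
      IsPullback snd fst (j l) (j k)) (G l)
    rw [← cancel_mono (CohBC.bc0 (j l) (j k) fst snd ((IsPullback.of_hasPullback (j k) (j l)).flip).w (G l)), zero_comp,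
      Category.assoc, ← homEquiv_sqMap (j k) fst snd pullback.condition (q l), ← Adjunction.homEquiv_naturality_left,
      hc k l]
    haveI := (pullbackPushforwardAdjunction fst).right_adjoint_additive
    rw [Adjunction.homEquiv_unit, Functor.map_zero, comp_zero]
  exact le_antisymm
    (Subobject.mk_le_mk_of_comm (kernel.lift (q k) _ h1) (kernel.lift_ι _ _ _))
    (Subobject.mk_le_mk_of_comm (kernel.lift (P.map η) _ h2 ≫ (PreservesKernel.iso P η).inv) (by
      rw [Category.assoc, PreservesKernel.iso_inv_ι, kernel.lift_ι]))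

end Groth.Agent.Grass18
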