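import Groth.Agent.Lib.Grass18.Functor
import Groth.Agent.Lib.DeRhamH7.Terms

/-!
# Grassmannians and projective bundles of locally free modules are proper
-/

set_option autoImplicit false
set_option linter.style.haveILetI false
set_option linter.unusedSectionVars false
set_option backward.isDefEq.respectTransparency false
set_option backward.isDefEq.respectTransparency.types false
set_option maxHeartbeats 800000

universe u

open CategoryTheory CategoryTheory.Limits AlgebraicGeometry Scheme.Modules TopologicalSpace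

namespace Groth.Agent.Grass18

open Groth.Agent

variable {S G G' : Scheme.{u}} {V : S.Modules} {r n : ℕ}

/-- A morphism over the base carrying the universal quotient to itself is the identity. -/
theorem eq_id_of_quotBC {π : G ⟶ S} {Q : G.Modules} {q : (Scheme.Modules.pullback π).obj V ⟶ Q}
    (hG : Grass.IsGrass π V r Q q) {π' : G' ⟶ S} {Q' : G'.Modules} {q' : (Scheme.Modules.pullback π').obj V ⟶ Q'}
    {a : G ⟶ G'} {b : G' ⟶ G} (ha : a ≫ π' = π) (hb : b ≫ π = π')
    (ea : (Scheme.Modules.pullback a).obj Q' ≅ Q) (hea : Grass.quotBC ha q' ≫ ea.hom = q)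
    (eb : (Scheme.Modules.pullback b).obj Q ≅ Q') (heb : Grass.quotBC hb q ≫ eb.hom = q') : a ≫ b = 𝟙 G := by
  haveI := hG.epi
  let g := 𝟙 G
  have hg : g ≫ π = π := Category.id_comp _
  have hab : (a ≫ b) ≫ π = π := by rw [Category.assoc, hb, ha]
  let eid : (Scheme.Modules.pullback (𝟙 G)).obj Q ≅ Q := (pullbackId G).app Q
  have h1 : Grass.quotBC hab q ≫ ((pullbackComp a b).app Q).inv ≫ (Scheme.Modules.pullback a).map eb.hom ≫ ea.hom = q := by
    rw [GrassLib.quotBC_comp q hb ha hab, Category.assoc, Iso.app_inv, Iso.hom_inv_id_app_assoc, ← Category.assoc,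
      ← GrassLib.quotBC_comp_map ha, heb, hea]
  have h2 : Grass.quotBC hg q ≫ eid.hom = q := by
    have hn := (pullbackId G).hom.naturality q
    simp only [Functor.id_map] at hn
    show ((pullbackCongr hg).inv.app V ≫ (pullbackComp (𝟙 G) π).inv.app V ≫ (Scheme.Modules.pullback (𝟙 G)).map q) ≫
      (pullbackId G).hom.app Q = q
    rw [Category.assoc, Category.assoc, hn, ← cmp_id π V hg]
    simp [ModLimH13.cmp]
  exact (hG.lift_unique π Q hG.rank q hG.epi (a ≫ b) hab
      (((pullbackComp a b).app Q).symm ≪≫ (Scheme.Modules.pullback a).mapIso eb ≪≫ ea) (by simpa using h1)).trans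
    (hG.lift_unique π Q hG.rank q hG.epi (𝟙 G) hg eid h2).symm
where
  cmp_id (π : G ⟶ S) (V : S.Modules) (h : 𝟙 G ≫ π = π) :
      (ModLimH13.cmp (𝟙 G) π h).hom.app V = (pullbackId G).hom.app ((Scheme.Modules.pullback π).obj V) := by
    have h1 := congrArg (fun α => α.app V) (pseudofunctor_right_unitality (f := π))
    simp only [NatTrans.comp_app, Functor.whiskerLeft_app, Functor.rightUnitor_hom_app, Category.comp_id,
      eqToHom_app] at h1
    erw [Category.comp_id] at h1
    rw [← cancel_epi ((pullbackComp (𝟙 G) π).inv.app V), h1]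
    simp [ModLimH13.cmp, pullbackCongr]

/-- Grassmannians of locally free modules are proper. -/
theorem isProper_of_isGrass {π : G ⟶ S} {Q : G.Modules} {q : (Scheme.Modules.pullback π).obj V ⟶ Q}
    (hG : Grass.IsGrass π V r Q q) (hV : FlatMod.IsFinLocFreeOfRank n V) (hr : r ≤ n) : IsProper π := by
  obtain ⟨G₀, Q₀, q₀, hG₀, hp⟩ := exists_isGrass V r hV hr
  haveI := hp
  haveI := hG.epi
  haveI := hG₀.epi
  let a := hG₀.lift π Q hG.rank q hG.epi
  let b := hG.lift G₀.hom Q₀ hG₀.rank q₀ hG₀.epi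
  have ha : a ≫ G₀.hom = π := hG₀.lift_comp _ _ _ _ _
  have hb : b ≫ π = G₀.hom := hG.lift_comp _ _ _ _ _
  have h1 : a ≫ b = 𝟙 G :=
    eq_id_of_quotBC hG ha hb (hG₀.liftIso π Q hG.rank q hG.epi) (hG₀.quotBC_liftIso π Q hG.rank q hG.epi)
      (hG.liftIso G₀.hom Q₀ hG₀.rank q₀ hG₀.epi) (hG.quotBC_liftIso G₀.hom Q₀ hG₀.rank q₀ hG₀.epi)
  have h2 : b ≫ a = 𝟙 G₀.left :=
    eq_id_of_quotBC hG₀ hb ha (hG.liftIso G₀.hom Q₀ hG₀.rank q₀ hG₀.epi)
      (hG.quotBC_liftIso G₀.hom Q₀ hG₀.rank q₀ hG₀.epi) (hG₀.liftIso π Q hG.rank q hG.epi)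
      (hG₀.quotBC_liftIso π Q hG.rank q hG.epi)
  haveI : IsIso a := ⟨b, h1, h2⟩
  rw [← ha]
  infer_instance

/-- An exterior power of a module of constant rank has constant rank. -/
theorem isFinLocFreeOfRank_extPow (hV : FlatMod.IsFinLocFreeOfRank n V) {L : S.Modules}
    (hL : ExtPow.IsExtPow r V L) : FlatMod.IsFinLocFreeOfRank (n.choose r) L := fun x => by
  obtain ⟨D, e, hx, he⟩ := P1Split.exists_isBas_nhd hV x
  obtain ⟨W, hW, hxW, hWD⟩ := exists_isAffineOpen_mem_and_subset (x := x) (U := D) hx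
  obtain ⟨g, hg⟩ := DeRhamH7.exists_isBas_extPow hL he ⟨W, hW⟩ hWD
  refine ⟨W, hxW, ?_⟩
  have hcard : Fintype.card (Set.powersetCard (Fin n) r) = n.choose r := by
    rw [← Nat.card_eq_fintype_card, Set.powersetCard.card, Nat.card_eq_fintype_card, Fintype.card_fin]
  obtain ⟨i⟩ := ResDesc11.nonempty_restrict_iso_free hg
  exact ⟨i ≪≫ eqToIso (congrArg (FlatMod.freeMod (W : Scheme.{u})) hcard)⟩

/-- Projective bundles of locally free modules are proper. -/
theorem isProper_projBundle {P : Scheme.{u}} {π : P ⟶ S} {O1 : P.Modules}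
    {u : (Scheme.Modules.pullback π).obj V ⟶ O1} (hP : KRR.IsProjBundle π V O1 u)
    (hV : FlatMod.IsFinLocFreeOfRank n V) (hn : 1 ≤ n) : IsProper π :=
  isProper_of_isGrass (Grass.IsGrass.of_isProjBundle hP) hV hn

end Groth.Agent.Grass18
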