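import Groth.Agent.Lib.Grass18.Epi
import Groth.Agent.Lib.Grass18.Proper
import Groth.Agent.Lib.AffHom12.Basic

/-!
# The Plücker morphism is a monomorphism
-/

set_option autoImplicit false
set_option linter.style.haveILetI false
set_option linter.unusedSectionVars false
set_option backward.isDefEq.respectTransparency false
set_option backward.isDefEq.respectTransparency.types false
set_option synthInstance.maxHeartbeats 200000
set_option maxHeartbeats 1600000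

universe u

open CategoryTheory CategoryTheory.Limits AlgebraicGeometry TopologicalSpace Opposite exteriorPower TensorProduct

noncomputable section

namespace Groth.Agent.Grass18

open Groth.Agent

variable {S G P T : Scheme.{u}} {π : G ⟶ S} {V L : S.Modules} {Q : G.Modules}
  {qu : (Scheme.Modules.pullback π).obj V ⟶ Q} {n q : ℕ}

/-- Values of a base-changed quotient. -/
theorem qv_quotBC {E : S.Modules} {F : G.Modules} (x : (Scheme.Modules.pullback π).obj E ⟶ F) {d : T ⟶ G}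
    {g : T ⟶ S} (hd : d ≫ π = g) {F' : T.Modules} (ψ : (Scheme.Modules.pullback d).obj F ⟶ F') {U : S.Opens}
    {O : T.Opens} (hO : O ≤ g ⁻¹ᵁ U) (hO' : O ≤ d ⁻¹ᵁ (π ⁻¹ᵁ U)) (e : Γ(E, U)) :
    M1.mres F' hO (qv g (Grass.quotBC hd x ≫ ψ) e) = M1.mres F' hO' (ψ.app _ (M2.pullSec d F (qv π x e))) := by
  have e1 : Grass.quotBC hd x ≫ ψ = (Scheme.Modules.pullbackCongr hd).inv.app E ≫
      (Scheme.Modules.pullbackComp d π).inv.app E ≫ (Scheme.Modules.pullback d).map x ≫ ψ := by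
    simp only [Grass.quotBC, Category.assoc]
  rw [qv, e1, PBundle2.classify_value x d hd ψ e, M1.mres_mres]

theorem pl_mres {E : G.Modules} {d : T ⟶ G} {U W : G.Opens} (hWU : W ≤ U) {O : T.Opens} (h : O ≤ d ⁻¹ᵁ W)
    (h' : O ≤ d ⁻¹ᵁ U) (s : Γ(E, U)) :
    Wedge2.pl d E h (M1.mres E hWU s) = M1.mres _ h' (M2.pullSec d E s) :=
  ((Wedge2.mres_pl d E h' h hWU le_rfl s).symm.trans (M1.mres_id _ _ _))

/-- Two classifying maps with proportional Plücker coordinates classify isomorphic quotients. -/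
theorem exists_hom_of_theta [IsAffine T] [Coh.IsQCoh Q] [Epi qu] (hV : FlatMod.IsFinLocFreeOfRank n V)
    (φ : ∀ U : S.affineOpens, Γ(L, U.1) ≃ₗ[Γ(S, U.1)] ↥(⋀[Γ(S, U.1)]^q Γ(V, U.1)))
    (θ : (Scheme.Modules.pullback π).obj L ⟶ Wedge2.extMod q Q)
    (hθ : ∀ (U : S.affineOpens) (v : Fin q → Γ(V, U.1)),
      θ.app (π ⁻¹ᵁ U.1) (M2.pullSec π L ((φ U).symm (ιMulti _ q v))) =
        Wedge2.secExt q Q (π ⁻¹ᵁ U.1) (ιMulti _ q fun i => qv π qu (v i)))
    {g : T ⟶ S} {U : S.Opens} (hU : IsAffineOpen U) (hg : ⊤ ≤ g ⁻¹ᵁ U)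
    (b : Module.Basis (Fin n) Γ(S, U) Γ(V, U))
    {d d' : T ⟶ G} (hd : d ≫ π = g) (hd' : d' ≫ π = g)
    {W W' : G.Opens} (hW : IsAffineOpen W) (hWU : W ≤ π ⁻¹ᵁ U) (hdW : ⊤ ≤ d ⁻¹ᵁ W)
    (hW' : IsAffineOpen W') (hWU' : W' ≤ π ⁻¹ᵁ U) (hdW' : ⊤ ≤ d' ⁻¹ᵁ W')
    (a' : Module.Basis (Fin q) Γ(G, W') Γ(Q, W'))
    (χ : (Scheme.Modules.pullback d).obj (Wedge2.extMod q Q) ⟶ (Scheme.Modules.pullback d').obj (Wedge2.extMod q Q))
    (hχ : Grass.quotBC hd θ ≫ χ = Grass.quotBC hd' θ) :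
    ∃ γ : (Scheme.Modules.pullback d).obj Q ⟶ (Scheme.Modules.pullback d').obj Q,
      Grass.quotBC hd qu ≫ γ = Grass.quotBC hd' qu := by
  classical
  have hVq := M2.isQCoh_of_isFinLocFree (M2.isFinLocFree_of_ofRank hV)
  let R := Γ(T, ⊤)
  let TT : T.affineOpens := ⟨⊤, isAffineOpen_top T⟩
  let φQ : ∀ O : G.affineOpens, Γ(Wedge2.extMod q Q, O.1) ≃ₗ[Γ(G, O.1)] ↥(⋀[Γ(G, O.1)]^q Γ(Q, O.1)) := fun O =>
    (LinearEquiv.ofBijective (Wedge2.secExt q Q O.1)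
      ⟨Wedge2.injective_secExt q Q O.2, Wedge2.surjective_secExt q Q O.2⟩).symm
  have hDq := Wedge2.isQCoh_extMod q Q
  -- values and their wedges
  have data : ∀ (e : T ⟶ G) (he : e ≫ π = g) (O : G.Opens) (hO : IsAffineOpen O) (hOU : O ≤ π ⁻¹ᵁ U) (heO : ⊤ ≤ e ⁻¹ᵁ O),
      ∃ Ψ : ↥(⋀[R]^q Γ((Scheme.Modules.pullback e).obj Q, ⊤)) →ₗ[R]
          Γ((Scheme.Modules.pullback e).obj (Wedge2.extMod q Q), ⊤),
        Function.Bijective Ψ ∧
        ∀ J : Fin q → Fin n,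
          Ψ (ιMulti R q fun i => M1.mres _ hg (qv g (Grass.quotBC he qu) (b (J i)))) =
            M1.mres _ hg (qv g (Grass.quotBC he θ) ((φ ⟨U, hU⟩).symm (ιMulti _ q fun i => b (J i)))) := by
    intro e he O hO hOU heO
    obtain ⟨Ψ, hΨ, hbij⟩ := Wedge2.exists_pullMap (g := e) φQ inferInstance hDq ⟨O, hO⟩ TT heO
    refine ⟨Ψ, hbij, fun J => ?_⟩
    have h2 : ⊤ ≤ e ⁻¹ᵁ (π ⁻¹ᵁ U) := heO.trans (e.preimage_mono hOU)
    have hv : ∀ v : Γ(V, U), M1.mres _ hg (qv g (Grass.quotBC he qu) v) =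
        Wedge2.pl e Q heO (M1.mres Q hOU (qv π qu v)) := fun v => by
      have := qv_quotBC qu he (𝟙 _) hg h2 v
      rw [Category.comp_id] at this
      rw [this, pl_mres hOU heO h2]
      rfl
    have h3 := hΨ fun i => M1.mres Q hOU (qv π qu (b (J i)))
    simp only [hv]
    refine h3.trans ?_
    have h4 := qv_quotBC θ he (𝟙 _) hg h2 ((φ ⟨U, hU⟩).symm (ιMulti _ q fun i => b (J i)))
    rw [Category.comp_id] at h4
    rw [h4]
    show Wedge2.pl e _ heO (Wedge2.secExt q Q O (ιMulti _ q fun i => M1.mres Q hOU (qv π qu (b (J i))))) = _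
    rw [← Wedge2.resExt_ιMulti q Q hOU, ← Wedge2.mres_secExt, pl_mres hOU heO h2, qv]
    erw [hθ ⟨U, hU⟩]
    rfl
  obtain ⟨Ψ, hΨb, hΨ⟩ := data d hd W hW hWU hdW
  obtain ⟨Ψ', hΨb', hΨ'⟩ := data d' hd' W' hW' hWU' hdW'
  let N := (Scheme.Modules.pullback d).obj Q
  let N' := (Scheme.Modules.pullback d').obj Q
  have hN : Coh.IsQCoh N := M1.isQCoh_pullback d inferInstance
  have hN' : Coh.IsQCoh N' := M1.isQCoh_pullback d' inferInstance
  let v : Fin n → Γ(N, ⊤) := fun i => M1.mres _ hg (qv g (Grass.quotBC hd qu) (b i))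
  let v' : Fin n → Γ(N', ⊤) := fun i => M1.mres _ hg (qv g (Grass.quotBC hd' qu) (b i))
  let f : (Fin n → R) →ₗ[R] Γ(N, ⊤) := Fintype.linearCombination R v
  let f' : (Fin n → R) →ₗ[R] Γ(N', ⊤) := Fintype.linearCombination R v'
  have hf : Function.Surjective f := by
    rw [← LinearMap.range_eq_top, Fintype.range_linearCombination]
    haveI : Epi (Grass.quotBC hd qu) := GrassLib.epi_quotBC hd
    exact span_values g hVq hU b (isAffineOpen_top T) hg hN (Grass.quotBC hd qu)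
  have hf' : Function.Surjective f' := by
    rw [← LinearMap.range_eq_top, Fintype.range_linearCombination]
    haveI : Epi (Grass.quotBC hd' qu) := GrassLib.epi_quotBC hd'
    exact span_values g hVq hU b (isAffineOpen_top T) hg hN' (Grass.quotBC hd' qu)
  -- a basis of the sections of the second quotient
  obtain ⟨c⟩ : Nonempty (Module.Basis (Fin q) R Γ(N', ⊤)) := by
    letI : Algebra Γ(G, W') R := (d'.appLE W' ⊤ hdW').hom.toAlgebra
    letI := PullBC11.baseModule (g := d') N' hdW'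
    haveI : IsScalarTower Γ(G, W') R Γ(N', ⊤) := IsScalarTower.of_algebraMap_smul fun _ _ => rfl
    have hbc : IsBaseChange R (PullBC11.sect (PP12.unitTo d' Q) hdW') :=
      PP12.isBC_unit d' inferInstance hW' (isAffineOpen_top T) hdW'
    exact ⟨(Algebra.TensorProduct.basis R a').map hbc.equiv⟩
  let χ' : Γ((Scheme.Modules.pullback d).obj (Wedge2.extMod q Q), ⊤) →ₗ[R]
      Γ((Scheme.Modules.pullback d').obj (Wedge2.extMod q Q), ⊤) := KoszShH13.appLin χ ⊤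
  let u : ↥(⋀[R]^q Γ(N, ⊤)) →ₗ[R] ↥(⋀[R]^q Γ(N', ⊤)) :=
    (LinearEquiv.ofBijective Ψ' hΨb').symm.toLinearMap.comp (χ'.comp Ψ)
  have hu : ∀ J : Fin q → Fin n,
      u (ιMulti R q fun i => f (Pi.single (J i) 1)) = ιMulti R q fun i => f' (Pi.single (J i) 1) := by
    intro J
    refine (LinearEquiv.symm_apply_eq _).2 ?_
    show χ.app ⊤ (Ψ (ιMulti R q fun i => f (Pi.single (J i) 1))) = Ψ' (ιMulti R q fun i => f' (Pi.single (J i) 1))
    simp only [f, f', Fintype.linearCombination_apply_single, one_smul, v, v']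
    rw [hΨ, hΨ', M1.app_mres]
    have : ∀ z, χ.app (g ⁻¹ᵁ U) (qv g (Grass.quotBC hd θ) z) = qv g (Grass.quotBC hd θ ≫ χ) z := fun z => rfl
    rw [this, hχ]
  have hker := ker_le_of_wedge f f' c hf' u hu
  let l : Γ(N, ⊤) →ₗ[R] Γ(N', ⊤) :=
    ((LinearMap.ker f).liftQ f' hker).comp (LinearMap.quotKerEquivOfSurjective f hf).symm.toLinearMap
  have hl : ∀ x, l (f x) = f' x := fun x => by
    show ((LinearMap.ker f).liftQ f' hker) ((LinearMap.quotKerEquivOfSurjective f hf).symm (f x)) = _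
    rw [show (LinearMap.quotKerEquivOfSurjective f hf).symm (f x) = Submodule.Quotient.mk x from
      (LinearEquiv.symm_apply_eq _).2 rfl, Submodule.liftQ_apply]
  obtain ⟨γ, hγ⟩ := AffHom12.exists_hom_top hN (H := N') l.toAddMonoidHom (fun r x => l.map_smul r x)
  refine ⟨γ, PBundle2.hom_ext_basis hVq hU b g hg _ _ fun i => ?_⟩
  refine (bijective_mres_of_eq N' (top_le_iff.1 hg).symm).1 ?_
  show M1.mres N' hg (qv g (Grass.quotBC hd qu ≫ γ) (b i)) = v' i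
  rw [show qv g (Grass.quotBC hd qu ≫ γ) (b i) = γ.app (g ⁻¹ᵁ U) (qv g (Grass.quotBC hd qu) (b i)) from rfl,
    ← M1.app_mres]
  show γ.app ⊤ (v i) = v' i
  rw [hγ]
  have h1 := hl (Pi.single i 1)
  simp only [f, f', Fintype.linearCombination_apply_single, one_smul] at h1
  exact h1

/-- The comparison of determinants of two maps with the same composite to the bundle. -/
theorem exists_chi {πP : P ⟶ S} {O1 : P.Modules} {u₁ : (Scheme.Modules.pullback πP).obj L ⟶ O1}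
    {D : G.Modules} {θ : (Scheme.Modules.pullback π).obj L ⟶ D} {c : G ⟶ P} (hc : c ≫ πP = π)
    (ec : (Scheme.Modules.pullback c).obj O1 ≅ D) (hec : Grass.quotBC hc u₁ ≫ ec.hom = θ) {g : T ⟶ S}
    {d d' : T ⟶ G} (hd : d ≫ π = g) (hd' : d' ≫ π = g) (h : d ≫ c = d' ≫ c) :
    ∃ χ : (Scheme.Modules.pullback d).obj D ⟶ (Scheme.Modules.pullback d').obj D,
      Grass.quotBC hd θ ≫ χ = Grass.quotBC hd' θ := by
  have hdc : (d ≫ c) ≫ πP = g := by rw [Category.assoc, hc, hd]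
  have hdc' : (d' ≫ c) ≫ πP = g := by rw [Category.assoc, hc, hd']
  obtain ⟨w, hw⟩ := GrassClosed13.exists_quotBC_of_eq u₁ h hdc hdc'
  have key : ∀ (e : T ⟶ G) (he : e ≫ π = g) (hec' : (e ≫ c) ≫ πP = g),
      Grass.quotBC he θ = Grass.quotBC hec' u₁ ≫ (Scheme.Modules.pullbackComp e c).inv.app O1 ≫
        (Scheme.Modules.pullback e).map ec.hom := fun e he hec' => by
    rw [GrassLib.quotBC_comp u₁ hc he hec', Category.assoc, Iso.hom_inv_id_app_assoc, ← GrassLib.quotBC_comp_map, hec]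
  refine ⟨(Scheme.Modules.pullback d).map ec.inv ≫ (Scheme.Modules.pullbackComp d c).hom.app O1 ≫ w.hom ≫
    (Scheme.Modules.pullbackComp d' c).inv.app O1 ≫ (Scheme.Modules.pullback d').map ec.hom, ?_⟩
  rw [key d hd hdc, key d' hd' hdc', ← hw]
  simp only [Category.assoc, ← Functor.map_comp_assoc, Iso.hom_inv_id, CategoryTheory.Functor.map_id,
    Category.id_comp, Iso.inv_hom_id_app_assoc]

/-- The Plücker morphism is a monomorphism. -/
theorem mono_plucker (hG : Grass.IsGrass π V q Q qu) (hV : FlatMod.IsFinLocFreeOfRank n V)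
    (φ : ∀ U : S.affineOpens, Γ(L, U.1) ≃ₗ[Γ(S, U.1)] ↥(⋀[Γ(S, U.1)]^q Γ(V, U.1)))
    (θ : (Scheme.Modules.pullback π).obj L ⟶ Wedge2.extMod q Q)
    (hθ : ∀ (U : S.affineOpens) (v : Fin q → Γ(V, U.1)),
      θ.app (π ⁻¹ᵁ U.1) (M2.pullSec π L ((φ U).symm (ιMulti _ q v))) =
        Wedge2.secExt q Q (π ⁻¹ᵁ U.1) (ιMulti _ q fun i => qv π qu (v i)))
    {πP : P ⟶ S} {O1 : P.Modules} {u₁ : (Scheme.Modules.pullback πP).obj L ⟶ O1}
    {c : G ⟶ P} (hc : c ≫ πP = π) (ec : (Scheme.Modules.pullback c).obj O1 ≅ Wedge2.extMod q Q)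
    (hec : Grass.quotBC hc u₁ ≫ ec.hom = θ) : Mono c := by
  haveI := hG.epi
  haveI : Coh.IsQCoh Q := M2.isQCoh_of_isFinLocFree (M2.isFinLocFree_of_ofRank hG.rank)
  refine ⟨fun {T} d d' hdd => ?_⟩
  have hgg : d' ≫ π = d ≫ π := by rw [← hc, ← Category.assoc, ← hdd, Category.assoc]
  have hloc : ∀ t : T, ∃ O : T.Opens, IsAffineOpen O ∧ t ∈ O ∧ O.ι ≫ d = O.ι ≫ d' := by
    intro t
    obtain ⟨U, hU, htU, -, ⟨b⟩⟩ := exists_affine_basis hV ((d ≫ π) t) (O := ⊤) trivial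
    obtain ⟨W, hW, htW, hWU, ⟨a⟩⟩ := exists_affine_basis hG.rank (d t) (O := π ⁻¹ᵁ U) htU
    obtain ⟨W', hW', htW', hWU', ⟨a'⟩⟩ := exists_affine_basis hG.rank (d' t) (O := π ⁻¹ᵁ U) (by
      show (π (d' t)) ∈ U
      rw [← Scheme.Hom.comp_apply, hgg]
      exact htU)
    obtain ⟨O, hO, htO, hle⟩ := exists_isAffineOpen_mem_and_subset (x := t) (U := d ⁻¹ᵁ W ⊓ d' ⁻¹ᵁ W') ⟨htW, htW'⟩
    haveI : IsAffine O.toScheme := hO
    refine ⟨O, hO, htO, ?_⟩
    let g : O.toScheme ⟶ S := O.ι ≫ d ≫ π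
    have h₁ : (O.ι ≫ d) ≫ π = g := Category.assoc _ _ _
    have h₂ : (O.ι ≫ d') ≫ π = g := by rw [Category.assoc, hgg]
    have hcc : (O.ι ≫ d) ≫ c = (O.ι ≫ d') ≫ c := by rw [Category.assoc, Category.assoc, hdd]
    have hgU : ⊤ ≤ g ⁻¹ᵁ U := fun x _ => hWU (hle x.2).1
    have hdW : ⊤ ≤ (O.ι ≫ d) ⁻¹ᵁ W := fun x _ => (hle x.2).1
    have hdW' : ⊤ ≤ (O.ι ≫ d') ⁻¹ᵁ W' := fun x _ => (hle x.2).2
    obtain ⟨χ, hχ⟩ := exists_chi hc ec hec h₁ h₂ hcc
    obtain ⟨χ', hχ'⟩ := exists_chi hc ec hec h₂ h₁ hcc.symm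
    obtain ⟨γ, hγ⟩ := exists_hom_of_theta hV φ θ hθ hU hgU b h₁ h₂ hW hWU hdW hW' hWU' hdW' a' χ hχ
    obtain ⟨γ', hγ'⟩ := exists_hom_of_theta hV φ θ hθ hU hgU b h₂ h₁ hW' hWU' hdW' hW hWU hdW a χ' hχ'
    haveI := GrassLib.epi_quotBC (q := qu) h₁
    haveI := GrassLib.epi_quotBC (q := qu) h₂
    let e : (Scheme.Modules.pullback (O.ι ≫ d)).obj Q ≅ (Scheme.Modules.pullback (O.ι ≫ d')).obj Q :=
      ⟨γ, γ', by rw [← cancel_epi (Grass.quotBC h₁ qu), ← Category.assoc, hγ, hγ', Category.comp_id],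
        by rw [← cancel_epi (Grass.quotBC h₂ qu), ← Category.assoc, hγ', hγ, Category.comp_id]⟩
    exact (hG.lift_unique g _ (M2.isFinLocFreeOfRank_pullback _ hG.rank) (Grass.quotBC h₂ qu) inferInstance
        (O.ι ≫ d) h₁ e hγ).trans
      (hG.lift_unique g _ (M2.isFinLocFreeOfRank_pullback _ hG.rank) (Grass.quotBC h₂ qu) inferInstance
        (O.ι ≫ d') h₂ (Iso.refl _) (Category.comp_id _)).symm
  choose O hO htO hOd using hloc
  exact Scheme.Cover.hom_ext (Scheme.openCoverOfIsOpenCover T O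
    (top_le_iff.1 fun t _ => Opens.mem_iSup.2 ⟨t, htO t⟩)) _ _ hOd

end Groth.Agent.Grass18
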