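import Groth.Agent.Lib.Wedge2.Exists
import Groth.Agent.Lib.Wedge2.Top
import Groth.Agent.Lib.ExtFil4.Main
import Groth.Agent.Lib.VeryAmple11.OfMorph
import Groth.Agent.Lib.VeryAmple11.ModHom
import Groth.Agent.Lib.PBundle2.Values

/-!
# The determinant of the universal quotient as a quotient of the exterior power
-/

set_option autoImplicit false
set_option linter.style.haveILetI false
set_option linter.unusedSectionVars false
set_option backward.isDefEq.respectTransparency false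
set_option backward.isDefEq.respectTransparency.types false
set_option synthInstance.maxHeartbeats 200000
set_option maxHeartbeats 800000

universe u

open CategoryTheory CategoryTheory.Limits AlgebraicGeometry TopologicalSpace Opposite exteriorPower

noncomputable section

namespace Groth.Agent.Grass18

open Groth.Agent

variable {S G : Scheme.{u}} (π : G ⟶ S) {V : S.Modules} {Q : G.Modules}
  (qu : (Scheme.Modules.pullback π).obj V ⟶ Q)

/-- The value of the quotient on a section of `V`. -/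
abbrev qv {U : S.Opens} (v : Γ(V, U)) : Γ(Q, π ⁻¹ᵁ U) := qu.app (π ⁻¹ᵁ U) (M2.pullSec π V v)

theorem qv_smul {U : S.Opens} (c : Γ(S, U)) (v : Γ(V, U)) : qv π qu (c • v) = π.app U c • qv π qu v := by
  rw [qv, M2.pullSec_smul, Scheme.Modules.Hom.app_smul]

theorem mres_qv {U U' : S.Opens} (h : U' ≤ U) (v : Γ(V, U)) :
    M1.mres Q (π.preimage_mono h) (qv π qu v) = qv π qu (M1.mres V h v) := by
  rw [qv, qv, ← M1.app_mres, VA11.mres_pullSec]

/-- The algebra of a preimage. -/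
@[reducible] def preAlg (U : S.Opens) : Algebra Γ(S, U) Γ(G, π ⁻¹ᵁ U) := (π.app U).hom.toAlgebra

/-- Sections over a preimage as a module over the functions on the base. -/
@[reducible] def preMod (M : G.Modules) (U : S.Opens) : Module Γ(S, U) Γ(M, π ⁻¹ᵁ U) :=
  Module.compHom _ (π.app U).hom

/-- The wedge of the values. -/
def tauQ (r : ℕ) (U : S.Opens) : ↥(⋀[Γ(S, U)]^r Γ(V, U)) →+ ↥(⋀[Γ(G, π ⁻¹ᵁ U)]^r Γ(Q, π ⁻¹ᵁ U)) :=
  letI := preAlg π U
  letI := preMod π Q U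
  haveI : IsScalarTower Γ(S, U) Γ(G, π ⁻¹ᵁ U) Γ(Q, π ⁻¹ᵁ U) := IsScalarTower.of_algebraMap_smul fun _ _ => rfl
  (Wedge2.tau (B := Γ(G, π ⁻¹ᵁ U)) ({ toFun := fun v => qv π qu v
                                      map_add' := fun a b => by rw [qv, qv, qv, M2.pullSec_add, map_add]
                                      map_smul' := fun c v => qv_smul π qu c v } :
    Γ(V, U) →ₗ[Γ(S, U)] Γ(Q, π ⁻¹ᵁ U)) r).toAddMonoidHom

theorem tauQ_ιMulti (r : ℕ) {U : S.Opens} (v : Fin r → Γ(V, U)) :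
    tauQ π qu r U (ιMulti _ r v) = ιMulti _ r fun i => qv π qu (v i) :=
  letI := preAlg π U
  letI := preMod π Q U
  haveI : IsScalarTower Γ(S, U) Γ(G, π ⁻¹ᵁ U) Γ(Q, π ⁻¹ᵁ U) := IsScalarTower.of_algebraMap_smul fun _ _ => rfl
  Wedge2.tau_ιMulti _ v

theorem tauQ_smul (r : ℕ) {U : S.Opens} (c : Γ(S, U)) (x : ↥(⋀[Γ(S, U)]^r Γ(V, U))) :
    tauQ π qu r U (c • x) = π.app U c • tauQ π qu r U x :=
  letI := preAlg π U
  letI := preMod π Q U
  haveI : IsScalarTower Γ(S, U) Γ(G, π ⁻¹ᵁ U) Γ(Q, π ⁻¹ᵁ U) := IsScalarTower.of_algebraMap_smul fun _ _ => rfl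
  ((Wedge2.tau (B := Γ(G, π ⁻¹ᵁ U)) _ r).map_smul c x).trans (algebraMap_smul Γ(G, π ⁻¹ᵁ U) c _).symm

/-- The quotient of the exterior power onto the determinant. -/
theorem exists_theta (r : ℕ) {L : S.Modules}
    (φ : ∀ U : S.affineOpens, Γ(L, U.1) ≃ₗ[Γ(S, U.1)] ↥(⋀[Γ(S, U.1)]^r Γ(V, U.1)))
    (hφ : ∀ (U U' : S.affineOpens) (h : U'.1 ≤ U.1) (e : Fin r → Γ(V, U.1)),
      M1.mres L h ((φ U).symm (ιMulti _ r e)) = (φ U').symm (ιMulti _ r fun j => M1.mres V h (e j))) :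
    ∃ θ : (Scheme.Modules.pullback π).obj L ⟶ Wedge2.extMod r Q, ∀ (U : S.affineOpens) (v : Fin r → Γ(V, U.1)),
      θ.app (π ⁻¹ᵁ U.1) (M2.pullSec π L ((φ U).symm (ιMulti _ r v))) =
        Wedge2.secExt r Q (π ⁻¹ᵁ U.1) (ιMulti _ r fun i => qv π qu (v i)) := by
  let D := Wedge2.extMod r Q
  let g : ∀ U : S.Opens, IsAffineOpen U → Γ(L, U) →+ Γ((Scheme.Modules.pushforward π).obj D, U) := fun U hU =>
    (Wedge2.secExt r Q (π ⁻¹ᵁ U)).toAddMonoidHom.comp ((tauQ π qu r U).comp (φ ⟨U, hU⟩).toLinearMap.toAddMonoidHom)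
  have hg : ∀ (U : S.Opens) (hU : IsAffineOpen U) (x : Γ(L, U)),
      (show Γ(D, π ⁻¹ᵁ U) from g U hU x) = Wedge2.secExt r Q (π ⁻¹ᵁ U) (tauQ π qu r U (φ ⟨U, hU⟩ x)) := fun _ _ _ => rfl
  have hsmul : ∀ (U : S.Opens) (hU : IsAffineOpen U) (c : Γ(S, U)) (m : Γ(L, U)), g U hU (c • m) = c • g U hU m := by
    intro U hU c m
    show Wedge2.secExt r Q (π ⁻¹ᵁ U) (tauQ π qu r U (φ ⟨U, hU⟩ (c • m))) =
      π.app U c • Wedge2.secExt r Q (π ⁻¹ᵁ U) (tauQ π qu r U (φ ⟨U, hU⟩ m))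
    rw [map_smul, tauQ_smul, map_smul]
  obtain ⟨ψ, hψ⟩ := VA11.exists_hom_of_affine L ((Scheme.Modules.pushforward π).obj D) g hsmul
    (fun {U W} hU hW h m => by
      obtain ⟨y, rfl⟩ := (φ ⟨U, hU⟩).symm.surjective m
      refine KoszShH13.extPow_ext
        ((M1.mres D (π.preimage_mono h)).hom.comp ((g U hU).comp (φ ⟨U, hU⟩).symm.toLinearMap.toAddMonoidHom))
        ((g W hW).comp ((M1.mres L h).hom.comp (φ ⟨U, hU⟩).symm.toLinearMap.toAddMonoidHom)) (fun c e => ?_) y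
      show M1.mres D (π.preimage_mono h) (Wedge2.secExt r Q (π ⁻¹ᵁ U) (tauQ π qu r U (φ ⟨U, hU⟩ ((φ ⟨U, hU⟩).symm (c • ιMulti _ r e))))) =
        Wedge2.secExt r Q (π ⁻¹ᵁ W) (tauQ π qu r W (φ ⟨W, hW⟩ (M1.mres L h ((φ ⟨U, hU⟩).symm (c • ιMulti _ r e)))))
      rw [LinearEquiv.apply_symm_apply, tauQ_smul, tauQ_ιMulti, map_smul, M1.mres_smul, Wedge2.mres_secExt,
        Wedge2.resExt_ιMulti, map_smul (φ ⟨U, hU⟩).symm, M1.mres_smul, hφ ⟨U, hU⟩ ⟨W, hW⟩ h e, map_smul,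
        LinearEquiv.apply_symm_apply, tauQ_smul, tauQ_ιMulti, map_smul]
      congr 1
      · exact ConcreteCategory.congr_hom (π.naturality (homOfLE h).op).symm c
      · exact congrArg (fun w => Wedge2.secExt r Q _ (ιMulti _ r w)) (funext fun i => mres_qv π qu h (e i)))
  refine ⟨((Scheme.Modules.pullbackPushforwardAdjunction π).homEquiv L D).symm ψ, fun U v => ?_⟩
  have h1 := congrArg (fun χ => χ.app U.1 ((φ U).symm (ιMulti _ r v)))
    (((Scheme.Modules.pullbackPushforwardAdjunction π).homEquiv_unit _ _ _).symm.trans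
      (Equiv.apply_symm_apply ((Scheme.Modules.pullbackPushforwardAdjunction π).homEquiv L D) ψ))
  refine h1.trans ((hψ U.1 U.2 _).trans ?_)
  show Wedge2.secExt r Q (π ⁻¹ᵁ U.1) (tauQ π qu r U.1 (φ U ((φ U).symm (ιMulti _ r v)))) = _
  rw [LinearEquiv.apply_symm_apply, tauQ_ιMulti]

end Groth.Agent.Grass18
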